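import Mathlib
import Cfsg.Agent.Lib.StdInt.Defs

/-! Groups with a standard subgroup `2.B` (plans/STDM.md): the abstract interfaces. -/

set_option autoImplicit false

namespace CfsgLib.StdM

open Subgroup

/-- the facts about a group `L` with centre `{1, t}` and without outer automorphisms -/
structure GoodA {L : Type*} [Group L] (t : L) : Prop where
  inner : StdInt.Inner L
  ne : t ≠ 1
  sq : t * t = 1
  cen : ∀ x, x ∈ center L ↔ x = 1 ∨ x = t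
  inn2 : ∀ l, l ≠ 1 → l ≠ t → l * l = 1 → t ∈ StdInt.Wf (MulAut.conj l)
  inn4 : ∀ m, m * m * (m * m) = t → ∃ a, Commute a (m * m) ∧ ¬ Odd (orderOf (a * m * a⁻¹ * m⁻¹))
  nrm : ∀ s w, s * s = 1 → s ≠ 1 → s ≠ t → Odd (orderOf w) → Commute w s →
    Odd (Nat.card (StdInt.Nc s w)) ∨ ∃ r ∈ StdInt.Nc s w, r * r = 1 ∧ r ≠ 1 ∧ r ≠ s
  fix : ∀ s a, s * s = 1 → s ≠ 1 → s ≠ t → Commute a s → StdInt.Two a →
    (∀ v ∈ StdInt.Wf (MulAut.conj s), StdInt.Two v → Commute a v) → a = 1 ∨ a = t ∨ a = s ∨ a = s * t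

/-- The hypotheses of the TI lemma: `z` is a central involution of `D`, `T` a class of involutions,
`Q` extraspecial and generated by the elements of `T` in it. -/
structure TIG {D : Type*} [Group D] (z : D) (T : Set D) (Q : Subgroup D) (k : ℕ) : Prop where
  k2 : 2 ≤ k
  z2 : orderOf z = 2
  zc : ∀ g, g * z = z * g
  T2 : ∀ s ∈ T, s * s = 1
  Tz : ∀ s ∈ T, s * z ∈ T
  Tconj : ∀ s ∈ T, ∀ g, g * s * g⁻¹ ∈ T
  Ttr : ∀ s ∈ T, ∀ s' ∈ T, IsConj s s'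
  zQ : z ∈ Q
  sq : ∀ a ∈ Q, a * a = 1 ∨ a * a = z
  Z : ∀ a ∈ Q, (∀ b ∈ Q, a * b = b * a) → a = 1 ∨ a = z
  gen : Q ≤ closure (T ∩ Q)
  norm : ∀ s ∈ T, s ∈ Q → ∀ x, (x * s * x⁻¹ = s ∨ x * s * x⁻¹ = s * z) → x ∈ normalizer (Q : Set D)
  three : ∀ s ∈ T, s ∈ normalizer (Q : Set D) → s ∈ Q
  nk : ¬ 2 ^ (k + 2) ∣ (T ∩ Q).ncard
  free : ∀ W : Subgroup D, W ≤ Q → z ∈ W → (∀ w ∈ W, w ∉ T) → 2 ^ (k + 1) * Nat.card W ≤ Nat.card Q

end CfsgLib.StdM
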