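import Mathlib
import Cfsg.Agent.Lib.Mon.Six
import Cfsg.Agent.Lib.MonRec.OnC
import Cfsg.Agent.Lib.StdM.Abs

/-! Groups with a standard subgroup `2.B` (plans/STDM.md): notation and interfaces. -/

set_option autoImplicit false

namespace CfsgLib.StdM

open Cfsg CfsgLib.Leech CfsgLib.Mon CfsgLib.DCX Subgroup

/-- the class under `t` -/
noncomputable abbrev v0 : V24 := k0.φ (dlL none (some 0))

theorem tI_mem_CK (p r : GolayPt) : tI k0 p r ∈ CK := by
  rw [CK, C1_eq, std_k0.tI_eq, q_mem_Cq, φ_dlL, φ_dlL]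
  simp only [om_add_left, om_add_right, om_lam_lam, add_zero]

/-- a second short element; `t1` and `t t1` are short -/
noncomputable def t1K : CK := ⟨tI k0 none (some 1), tI_mem_CK _ _⟩

/-- a frame element such that `t d` is a frame element -/
noncomputable def dK : CK := t1K * ⟨tI k0 (some 3) (some 5), tI_mem_CK _ _⟩

/-- the subgroup generated by the elements of odd order of `CK` commuting with `s` -/
noncomputable def OddGen (s : CK) : Subgroup CK := closure {w | Odd (orderOf w) ∧ Commute s w}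

/-- the stabilizer of the class under `t` -/
noncomputable def Hv : Subgroup (C k0) where
  carrier := {c | cact c v0 = v0}
  one_mem' := cact_one _
  mul_mem' := fun {a b} ha hb => by
    show cact (a * b) v0 = v0
    rw [cact_mul, show cact b v0 = v0 from hb, show cact a v0 = v0 from ha]
  inv_mem' := fun {a} ha => by
    show cact a⁻¹ v0 = v0
    conv_lhs => rw [← show cact a v0 = v0 from ha]
    exact cact_inv_cact _ _

theorem mem_Hv {c : C k0} : c ∈ Hv ↔ cact c v0 = v0 := Iff.rfl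

theorem q_mem_Hv (e : ZMod 2) (w : V24) : q k0 e w ∈ Hv := cact_q _ _ _

theorem mem_CK_iff {c : C k0} : c ∈ CK ↔ cε c v0 = 0 ∧ cact c v0 = v0 := by rw [CK, C1_eq, mem_Cq]

theorem CK_le_Hv : CK ≤ Hv := fun _ h => (mem_CK_iff.1 h).2

variable {M G : Type*} [Group M] [Group G]

/-- `CK` in `K` -/
noncomputable abbrev ιK (π : C k0 →* M) (τ : M) : CK →* KK π τ := piR (π.comp CK.subtype) τ

/-- `τ` in `K` -/
noncomputable abbrev τK' (π : C k0 →* M) (τ : M) : KK π τ := tR (π.comp CK.subtype) τ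

variable {π : C k0 →* M} {τ : M}

/-- `φ` identifies `K = 2.B` with the centralizer of `t` in `G` -/
structure Emb (φ : KK π τ →* G) : Prop where
  ms : MS π τ
  inj : Function.Injective φ
  cent : φ.range = centralizer {φ (ιK π τ tKK)}

/-- `ψ` extends `φ` from `CK` to the normalizer of `⟨t, z⟩` -/
structure Ext (φ : KK π τ →* G) (ψ : Hv →* G) : Prop extends Emb φ where
  ext : ∀ c : CK, ψ (inclusion CK_le_Hv c) = φ (ιK π τ c)
  inj' : Function.Injective ψ
  nz : ¬ IsConj (φ (ιK π τ tKK)) (φ (ιK π τ zK))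

/-- the elements of `Q` in `G` -/
noncomputable def qG (ψ : Hv →* G) (e : ZMod 2) (w : V24) : G := ψ ⟨q k0 e w, q_mem_Hv e w⟩

/-- `Q` in `G` -/
noncomputable def QG (ψ : Hv →* G) : Subgroup G := ((Q k0).subgroupOf Hv).map ψ

/-- `g` centralizes `z` and acts on `Q / ⟨z⟩` like `c` -/
def Acts (ψ : Hv →* G) (g : G) (c : C k0) : Prop :=
  g * qG ψ 1 0 = qG ψ 1 0 * g ∧ ∀ w, ∃ e, g * qG ψ 0 w * g⁻¹ = qG ψ e (cact c w)

variable {φ : KK π τ →* G} {ψ : Hv →* G}

theorem mem_QG {x : G} : x ∈ QG ψ ↔ ∃ e w, x = qG ψ e w :=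
  ⟨by rintro ⟨⟨_, _⟩, ⟨e, w, rfl⟩, rfl⟩; exact ⟨e, w, rfl⟩, by rintro ⟨e, w, rfl⟩; exact ⟨_, q_mem_Q e w, rfl⟩⟩

theorem qG_mul (e e' : ZMod 2) (v w : V24) : qG ψ e v * qG ψ e' w = qG ψ (e + e' + bet v w) (v + w) := by
  rw [qG, qG, ← map_mul]; exact congrArg ψ (Subtype.ext (q_mul _ _ _ _))

theorem qG_zero : qG ψ 0 0 = 1 := by rw [qG, ← map_one ψ]; exact congrArg ψ (Subtype.ext q_zero)

theorem conj_qG (h : Hv) (e : ZMod 2) (w : V24) :
    ψ h * qG ψ e w * (ψ h)⁻¹ = qG ψ (e + cε h.1 w) (cact h.1 w) := by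
  rw [qG, qG, ← map_inv, ← map_mul, ← map_mul]; exact congrArg ψ (Subtype.ext (conj_q _ _ _))

theorem Ext.qG_inj (h : Ext φ ψ) {e e' : ZMod 2} {v w : V24} (k : qG ψ e v = qG ψ e' w) : e = e' ∧ v = w :=
  q_inj (congrArg Subtype.val (h.inj' k))

theorem Ext.qG_eq (h : Ext φ ψ) {c : CK} {e : ZMod 2} {w : V24} (k : c.1 = q k0 e w) :
    φ (ιK π τ c) = qG ψ e w := by
  rw [← h.ext]; exact congrArg ψ (Subtype.ext k)

theorem Ext.t_eq (h : Ext φ ψ) : φ (ιK π τ tKK) = qG ψ 0 v0 := h.qG_eq tK_eq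

theorem Ext.z_eq (h : Ext φ ψ) : φ (ιK π τ zK) = qG ψ 1 0 := h.qG_eq rfl

end CfsgLib.StdM
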