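import Mathlib
import Cfsg.Agent.Lib.StdM.Defs
import Cfsg.Agent.Lib.Invol.Four

/-! STDM, package CLS (plans/STDM.md §CLS): the involutions of `K = 2.B`. -/

set_option autoImplicit false

namespace CfsgLib.StdM

open Cfsg CfsgLib.Leech CfsgLib.Mon CfsgLib.DCX Subgroup

variable {M : Type*} [Group M] {π : C k0 →* M} {τ : M}

theorem coe_ιK (c : CK) : (ιK π τ c).1 = π c.1 := rfl

theorem comm_tK (h : MS π τ) (s : KK π τ) : s.1 * π tK = π tK * s.1 :=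
  mem_centralizer_singleton_iff.1 (h.am.KK_le s.2)

theorem isConj_K (h : MS π τ) {a b : KK π τ} {g : M} (h1 : g * π tK * g⁻¹ = π tK) (h2 : g * a.1 * g⁻¹ = b.1) :
    IsConj a b :=
  isConj_iff.2 ⟨⟨g, h.cent_t.le (mem_centralizer_singleton_iff.2 (mul_inv_eq_iff_eq_mul.1 h1))⟩, Subtype.ext h2⟩

theorem t1K_eq : t1K.1 = q k0 0 (k0.φ (dlL none (some 1))) := std_k0.tI_eq _ _

theorem dK_eq : ∃ e, dK.1 = q k0 e (k0.φ (dlL none (some 1) + dlL (some 3) (some 5))) :=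
  ⟨_, by rw [dK, coe_mul, t1K_eq, Subtype.coe_mk, std_k0.tI_eq, q_mul, map_add]⟩

theorem t_mul_t1K : ∃ e, tK * t1K.1 = q k0 e (k0.φ (dlL none (some 0) - dlL none (some 1))) :=
  ⟨_, by rw [tK_eq, t1K_eq, q_mul, MonRec.φ_sub]⟩

theorem t_mul_dK : ∃ e, tK * dK.1 =
    q k0 e (k0.φ (dlL none (some 0) - (dlL none (some 1) + dlL (some 3) (some 5)))) := by
  obtain ⟨e, he⟩ := dK_eq
  exact ⟨_, by rw [tK_eq, he, q_mul, MonRec.φ_sub]⟩

theorem isConj_t1 (π : C k0 →* M) : IsConj (π tK) (π t1K.1) := by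
  rw [t1K_eq]
  exact MAm.isConj_short π 0 (sqNorm_dlL (by decide))

theorem isConj_t_t1 (π : C k0 →* M) : IsConj (π tK) (π tK * π t1K.1) := by
  obtain ⟨e, he⟩ := t_mul_t1K
  rw [← map_mul, he]
  exact MAm.isConj_short π e (by decide +kernel)

theorem isConj_d (h : MS π τ) : IsConj (π (z k0)) (π dK.1) := by
  obtain ⟨e, he⟩ := dK_eq
  rw [he]
  exact h.am.isConj_four e (by decide +kernel)

theorem isConj_t_d (h : MS π τ) : IsConj (π (z k0)) (π tK * π dK.1) := by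
  obtain ⟨e, he⟩ := t_mul_dK
  rw [← map_mul, he]
  exact h.am.isConj_four e (by decide +kernel)

theorem tau_tI (h : MS π τ) (p r : GolayPt) : Commute (τK' π τ) (ιK π τ ⟨tI k0 p r, tI_mem_CK _ _⟩) :=
  Subtype.ext (h.am.gam _ _ (std_k0.gam_tI p r)).symm

theorem tau_t1 (h : MS π τ) : Commute (τK' π τ) (ιK π τ t1K) := tau_tI h _ _

theorem tau_d (h : MS π τ) : Commute (τK' π τ) (ιK π τ dK) := by
  rw [dK, map_mul]
  exact (tau_t1 h).mul_right (tau_tI h _ _)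

/-- 2-elements of `K` are conjugate into `CK` -/
theorem exists_conj_CK (h : MS π τ) {s : KK π τ} {n : ℕ} (hs : s ^ 2 ^ n = 1) :
    ∃ k c, k * s * k⁻¹ = ιK π τ c := by
  have := h.finite_K
  have h1 : IsPGroup 2 (zpowers s) := IsPGroup.of_card_dvd_pow (n := n) (by
    rw [Nat.card_zpowers]; exact orderOf_dvd_of_pow_eq_one hs)
  obtain ⟨x, hx⟩ := h1.nonempty_fixed_point_of_prime_not_dvd_card (KK π τ ⧸ (ιK π τ).range) (by
    rw [← Subgroup.index, h.kr.index_range (gen_piR _ _)]; decide)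
  obtain ⟨g, rfl⟩ := QuotientGroup.mk_surjective x
  obtain ⟨c, hc⟩ := QuotientGroup.eq.1 (hx ⟨s, mem_zpowers s⟩).symm
  exact ⟨g⁻¹, c, by rw [hc, inv_inv, mul_assoc]; rfl⟩

theorem conj_back {g s : M} (hs : g * π (z k0) * g⁻¹ = s) (hc : s * π tK = π tK * s) :
    IsConj (π tK) (g⁻¹ * π tK * g) ∧ g⁻¹ * π tK * g * π (z k0) = π (z k0) * (g⁻¹ * π tK * g) ∧
      IsConj (g⁻¹ * π tK * g * π (z k0)) (π tK * s) := by
  refine ⟨isConj_iff.2 ⟨g⁻¹, by rw [inv_inv]⟩, ?_, isConj_iff.2 ⟨g, by rw [← hs]; group⟩⟩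
  calc _ = g⁻¹ * (π tK * s) * g := by rw [← hs]; group
    _ = _ := by rw [← hc, ← hs]; group

theorem conj_pair_z {g s b : M} {c : C k0} (hs : g * π (z k0) * g⁻¹ = s)
    (hc : g⁻¹ * π tK * g = π c * b * (π c)⁻¹) :
    g * π c * b * (g * π c)⁻¹ = π tK ∧ g * π c * π (z k0) * (g * π c)⁻¹ = s := by
  refine ⟨?_, ?_⟩
  · calc _ = g * (π c * b * (π c)⁻¹) * g⁻¹ := by group
      _ = _ := by rw [← hc]; group
  · rw [mul_assoc g, ← map_mul, z_comm, map_mul, ← hs]; group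

theorem cls_z (h : MS π τ) {s : KK π τ} (h1 : IsConj (π (z k0)) s.1) (h2 : ¬ IsConj (π (z k0)) (π tK * s.1)) :
    IsConj (ιK π τ zK) s := by
  obtain ⟨g, hg⟩ := isConj_iff.1 h1
  obtain ⟨a1, a2, a3⟩ := conj_back hg (comm_tK h s)
  obtain ⟨c, hc⟩ := h.exists_eq_of_not_isConj a1 a2 fun e => h2 (e.trans a3)
  obtain ⟨b1, b2⟩ := conj_pair_z hg hc
  exact isConj_K h b1 b2

theorem cls_d (h : MS π τ) {s : KK π τ} (h1 : IsConj (π (z k0)) s.1) (h2 : IsConj (π (z k0)) (π tK * s.1)) :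
    IsConj (ιK π τ dK) s := by
  obtain ⟨d, hd, h8⟩ := exists_oct
  have key : ∀ s : KK π τ, IsConj (π (z k0)) s.1 → IsConj (π (z k0)) (π tK * s.1) →
      ∃ g, g * (τ⁻¹ * π (q k0 0 (k0.φ (tw d))) * τ) * g⁻¹ = π tK ∧ g * π (z k0) * g⁻¹ = s.1 := fun s h1 h2 => by
    obtain ⟨g, hg⟩ := isConj_iff.1 h1
    obtain ⟨a1, a2, -⟩ := conj_back hg (comm_tK h s)
    rcases h.comm_z_cases' hd h8 0 a1 a2 with ⟨c, hc⟩ | ⟨c, hc⟩
    · obtain ⟨b1, b2⟩ := conj_pair_z hg hc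
      refine (h.not_isConj (h2.trans ((MS.isConj_t_mul π).trans (isConj_iff.2 ⟨g * π c, ?_⟩)).symm)).elim
      rw [← conj_mul, b1, b2]
    · exact ⟨_, conj_pair_z hg hc⟩
  obtain ⟨g, g1, g2⟩ := key s h1 h2
  obtain ⟨k, k1, k2⟩ := key (ιK π τ dK) (isConj_d h) (isConj_t_d h)
  refine isConj_K h (g := g * k⁻¹) ?_ ?_
  · nth_rw 1 [← k1]
    rw [← g1]; group
  · rw [← k2, ← g2]; group

theorem sq_of_isConj_t {x : M} (k : IsConj (π tK) x) : x * x = 1 := by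
  obtain ⟨g, rfl⟩ := isConj_iff.1 k
  rw [conj_mul, MS.t_mul_self]; simp

theorem ne_one_of_isConj_t (h : MS π τ) {x : M} (k : IsConj (π tK) x) : x ≠ 1 := by
  rintro rfl
  simpa [isConj_one_left.1 k] using h.orderOf_t

theorem isConj_coe {a b : KK π τ} (k : IsConj a b) : IsConj a.1 b.1 := (KK π τ).subtype.map_isConj k

theorem isConj_t_coe (h : MS π τ) {a b : KK π τ} (k : IsConj a b) : IsConj (π tK * a.1) (π tK * b.1) := by
  obtain ⟨g, rfl⟩ := isConj_iff.1 k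
  exact isConj_iff.2 ⟨g.1, by rw [← conj_mul, comm_tK h g, mul_inv_cancel_right]; rfl⟩

theorem cls_t1 (h : MS π τ) {s : KK π τ} (h1 : IsConj (π tK) s.1) (h2 : IsConj (π tK) (π tK * s.1)) :
    IsConj (ιK π τ t1K) s := by
  have two := MonRec.two_of_ms h
  have nz : ∀ {x}, IsConj (π tK) x → ¬ IsConj (π (z k0)) x := fun k e => h.not_isConj (e.trans k.symm)
  obtain ⟨k, c, hk⟩ := exists_conj_CK h (s := s) (n := 1) (Subtype.ext (by
    rw [pow_one, pow_two]; exact sq_of_isConj_t h1))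
  have k0' : IsConj s (ιK π τ c) := isConj_iff.2 ⟨k, hk⟩
  refine IsConj.trans ?_ k0'.symm
  have h3 := h1.trans (isConj_coe k0')
  have h4 := h2.trans (isConj_t_coe h k0')
  have mE := Invol.mem_closure_pair_of_commute (MS.t_mul_self π) (sq_of_isConj_t h3) (comm_tK h (ιK π τ c)).symm
  obtain ⟨y, y1, y2, y3⟩ := MonRec.exists_all (E := closure {π tK, (ιK π τ c).1}) h two (fun f hf => by
    rcases (mE f).1 hf with rfl | rfl | rfl | rfl
    exacts [⟨one_mul _, fun e => h.mm.z_ne_one (isConj_one_left.1 e)⟩, ⟨MS.t_mul_self π, h.not_isConj⟩,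
      ⟨sq_of_isConj_t h3, nz h3⟩, ⟨sq_of_isConj_t h4, nz h4⟩]) ((mE _).2 (.inr (.inl rfl))) (fun f hf => by
    rcases (mE f).1 hf with rfl | rfl | rfl | rfl
    · simp
    · exact h.comm_iff.2 (z_comm _)
    · exact h.comm_iff.2 (z_comm _)
    · rw [coe_ιK, ← map_mul]; exact h.comm_iff.2 (z_comm _))
  have m1 : π tK ∈ closure {π tK, (ιK π τ c).1} := (mE _).2 (.inr (.inl rfl))
  have m2 : (ιK π τ c).1 ∈ closure {π tK, (ιK π τ c).1} := (mE _).2 (.inr (.inr (.inl rfl)))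
  generalize ιK π τ c = s at *
  obtain ⟨g, hg⟩ := isConj_iff.1 (cls_z h (s := ⟨y, h.cent_t.le (mem_centralizer_singleton_iff.2 (y2 _ m1).symm)⟩) y1
    (y3 _ m1 (ne_one_of_isConj_t h (IsConj.refl _))))
  have hg' : g.1 * π (z k0) * g.1⁻¹ = y := congrArg Subtype.val hg
  have key : ∀ f ∈ closure {π tK, s.1}, IsConj (π tK) f → ∃ e w, MonRec.Sv k0 w ∧ g.1⁻¹ * f * g.1 = π (q k0 e w) :=
    fun f hf ft => by
      have a : IsConj (π tK) (g.1⁻¹ * f * g.1) := ft.trans (isConj_iff.2 ⟨g.1⁻¹, by rw [inv_inv]⟩)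
      refine MonRec.exists_sv h two (sq_of_isConj_t a) (ne_one_of_isConj_t h a) (nz a) ?_ fun e =>
        y3 f hf (ne_one_of_isConj_t h ft) (e.trans (isConj_iff.2 ⟨g.1, by rw [← hg']; group⟩))
      calc _ = g.1⁻¹ * (f * y) * g.1 := by rw [← hg']; group
        _ = _ := by rw [y2 f hf, ← hg']; group
  obtain ⟨e, w, w1, w2⟩ := key _ m2 h3
  obtain ⟨e', w', w3, w4⟩ := key _ (mul_mem m1 m2) h4
  have gt : g.1⁻¹ * π tK = π tK * g.1⁻¹ := comm_tK h g⁻¹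
  rw [← mul_assoc, gt, mul_assoc, mul_assoc, ← mul_assoc g.1⁻¹, w2, ← map_mul, tK_eq, q_mul] at w4
  obtain ⟨b, b1, rfl, b3⟩ := MonRec.exists_dot sqNorm_tK w1 ((q_inj (h.inj w4)).2 ▸ w3)
  obtain ⟨a, a1, a2⟩ := conj_pair (κ := k0) (v := dlL none (some 1)) sqNorm_tK (sqNorm_dlL (by decide)) sqNorm_tK b1
    ((dot_dlL (by decide) (by decide) (by decide)).trans b3.symm) (φ_add_ne_zero sqNorm_tK b1 b3) 0 0 0 e
  rw [← tK_eq] at a1
  rw [← t1K_eq] at a2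
  refine isConj_K h (g := g.1 * π a) ?_ ?_
  · calc _ = g.1 * π (a * tK * a⁻¹) * g.1⁻¹ := by rw [map_mul, map_mul, map_inv]; group
      _ = _ := by rw [a1, comm_tK h g, mul_inv_cancel_right]
  · calc _ = g.1 * π (a * t1K.1 * a⁻¹) * g.1⁻¹ := by rw [map_mul, map_mul, map_inv, coe_ιK]; group
      _ = _ := by rw [a2, ← w2]; group

theorem t1_mul (h : MS π τ) : IsConj (ιK π τ t1K) (ιK π τ tKK * ιK π τ t1K) :=
  cls_t1 h (isConj_t_t1 π) (by
    change IsConj _ (π tK * (π tK * π t1K.1))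
    rw [← mul_assoc, MS.t_mul_self, one_mul]; exact isConj_t1 π)

theorem d_mul (h : MS π τ) : IsConj (ιK π τ dK) (ιK π τ tKK * ιK π τ dK) :=
  cls_d h (isConj_t_d h) (by
    change IsConj _ (π tK * (π tK * π dK.1))
    rw [← mul_assoc, MS.t_mul_self, one_mul]; exact isConj_d h)

theorem cls (h : MS π τ) {s : KK π τ} (h1 : s * s = 1) (h2 : s ≠ 1) : s = ιK π τ tKK ∨ IsConj (ιK π τ zK) s ∨
    IsConj (ιK π τ tKK * ιK π τ zK) s ∨ IsConj (ιK π τ t1K) s ∨ IsConj (ιK π τ dK) s := by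
  have two := MonRec.two_of_ms h
  have s2 : s.1 * s.1 = 1 := congrArg Subtype.val h1
  have tt : ∀ x, π tK * (π tK * x) = x := fun x => by rw [← mul_assoc, MS.t_mul_self, one_mul]
  have ts : π tK * s.1 * (π tK * s.1) = 1 := by
    rw [mul_assoc, ← mul_assoc s.1, comm_tK h s, mul_assoc, s2, mul_one, MS.t_mul_self]
  rcases two _ ts with e | e | e
  · exact .inl (Subtype.ext ((tt _).symm.trans (by rw [e, mul_one]; rfl)))
  · rcases (two _ s2).resolve_left fun e => h2 (Subtype.ext e) with k | k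
    · exact .inr (.inr (.inr (.inl (cls_t1 h k e))))
    · exact .inr (.inl (cls_z h k fun k' => h.not_isConj (k'.trans e.symm)))
  · rcases (two _ s2).resolve_left fun e => h2 (Subtype.ext e) with k | k
    · obtain ⟨g, hg⟩ := isConj_iff.1 (cls_z h (s := ιK π τ tKK * s) e (by
        change ¬ IsConj _ (π tK * (π tK * s.1))
        rw [tt]; exact fun k' => h.not_isConj (k'.trans k.symm)))
      refine .inr (.inr (.inl (isConj_iff.2 ⟨g, ?_⟩)))
      rw [← conj_mul, hg, h.kr.t_comm (gen_piR _ _) g, mul_inv_cancel_right, ← mul_assoc, ← map_mul, tKK_mul_self,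
        map_one, one_mul]
    · exact .inr (.inr (.inr (.inr (cls_d h k e))))

end CfsgLib.StdM
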