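import Mathlib
import Cfsg.Agent.Lib.StdM.Cls
import Cfsg.Agent.Lib.Mon.MOut
import Cfsg.Agent.Lib.ZStar.Main

/-! STDM, package FUS (plans/STDM.md §FUS). -/

set_option autoImplicit false

namespace CfsgLib.StdM

open Cfsg CfsgLib.Leech CfsgLib.Mon CfsgLib.DCX Subgroup

namespace FusP

/-- extension of a homomorphism to an overgroup of index two -/
theorem exists_ext_two {C G : Type*} [Group C] [Group G] {K H : Subgroup C} (hle : K ≤ H) {s : C}
    (hs : s ∈ H) (hs' : s ∉ K) (s2 : s * s = 1) (hK : ∀ a ∈ H, a ∉ K → a * s ∈ K) (ι : K →* G)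
    (hι : Function.Injective ι) {g : G} (g2 : g * g = 1) (hg : g ∉ ι.range)
    (hact : ∀ k l : K, l.1 = s * k.1 * s → g * ι k = ι l * g) :
    ∃ ψ : H →* G, (∀ c : K, ψ (inclusion hle c) = ι c) ∧ Function.Injective ψ := by
  classical
  have hs1 : s⁻¹ = s := inv_eq_of_mul_eq_one_right s2
  have hcj : ∀ {a : C}, a ∈ K → s * a * s ∈ K := fun {a} ha =>
    hK _ (H.mul_mem hs (hle ha)) fun h => hs' ((K.mul_mem_cancel_right ha).1 h)
  let f : H → G := fun a => if ha : a.1 ∈ K then ι ⟨a.1, ha⟩ else ι ⟨a.1 * s, hK _ a.2 ha⟩ * g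
  have f1 : ∀ (a : H) (k : K), a.1 = k.1 → f a = ι k := fun a k e => by
    have ha : a.1 ∈ K := e ▸ k.2
    rw [show f a = ι ⟨a.1, ha⟩ from dif_pos ha]
    exact congrArg ι (Subtype.ext e)
  have f2 : ∀ (a : H) (k : K), a.1 = k.1 * s → f a = ι k * g := fun a k e => by
    have ha : a.1 ∉ K := fun h => hs' ((K.mul_mem_cancel_left k.2).1 (e ▸ h))
    rw [show f a = ι ⟨a.1 * s, hK _ a.2 ha⟩ * g from dif_neg ha]
    exact congrArg (ι · * g) (Subtype.ext (by
      show a.1 * s = k.1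
      rw [e, mul_assoc, s2, mul_one]))
  have cs : ∀ a : H, (∃ k : K, a.1 = k.1) ∨ ∃ k : K, a.1 = k.1 * s := fun a => by
    by_cases ha : a.1 ∈ K
    · exact Or.inl ⟨⟨_, ha⟩, rfl⟩
    · exact Or.inr ⟨⟨_, hK _ a.2 ha⟩, by
        show a.1 = a.1 * s * s
        rw [mul_assoc, s2, mul_one]⟩
  refine ⟨MonoidHom.mk' f fun a b => ?_, fun c => f1 _ c rfl, (injective_iff_map_eq_one _).2 fun a ha => ?_⟩
  · rcases cs a with ⟨k, e⟩ | ⟨k, e⟩ <;> rcases cs b with ⟨l, e'⟩ | ⟨l, e'⟩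
    · rw [f1 a k e, f1 b l e', ← map_mul]
      exact f1 _ _ (by rw [coe_mul, coe_mul, e, e'])
    · rw [f1 a k e, f2 b l e', ← mul_assoc, ← map_mul]
      exact f2 _ _ (by rw [coe_mul, coe_mul, e, e', mul_assoc])
    · rw [f2 a k e, f1 b l e', mul_assoc, hact l ⟨_, hcj l.2⟩ rfl, ← mul_assoc, ← map_mul]
      refine f2 _ _ ?_
      show a.1 * b.1 = k.1 * (s * l.1 * s) * s
      rw [e, e']
      simp only [mul_assoc, s2, mul_one]
    · rw [f2 a k e, f2 b l e', mul_assoc, ← mul_assoc g, hact l ⟨_, hcj l.2⟩ rfl, mul_assoc, g2, mul_one,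
        ← map_mul]
      refine f1 _ _ ?_
      show a.1 * b.1 = k.1 * (s * l.1 * s)
      rw [e, e']
      simp only [mul_assoc]
  · rcases cs a with ⟨k, e⟩ | ⟨k, e⟩
    · have : ι k = 1 := (f1 a k e).symm.trans ha
      rw [(injective_iff_map_eq_one ι).1 hι k this] at e
      exact Subtype.ext e
    · have : ι k * g = 1 := (f2 a k e).symm.trans ha
      exact absurd ⟨k⁻¹, by rw [map_inv]; exact inv_eq_of_mul_eq_one_right this⟩ hg

/-- an element with centralizer of odd index is not conjugate to its product with a central involution -/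
theorem not_isConj_of_odd {K : Type*} [Group K] {k t : K} (ho : Odd (centralizer ({k} : Set K)).index)
    (t1 : t ≠ 1) (t2 : t * t = 1) (tc : ∀ x, x * t = t * x) : ¬ IsConj k (t * k) := by
  rintro hc
  obtain ⟨n, hn⟩ := isConj_iff.1 hc
  have e1 : ∀ a : K, a * k * a⁻¹ = t * k → a * (t * k) * a⁻¹ = k := fun a h => by
    rw [← mul_assoc, tc, mul_assoc t, mul_assoc t, h, ← mul_assoc, t2, one_mul]
  have e2 : ∀ a : K, a * k * a⁻¹ = k → a * (t * k) * a⁻¹ = t * k := fun a h => by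
    rw [← mul_assoc, tc, mul_assoc t, mul_assoc t, h]
  have em : ∀ a b : K, a * b * k * (a * b)⁻¹ = a * (b * k * b⁻¹) * a⁻¹ := fun a b => by group
  let H : Subgroup K :=
    { carrier := {a | a * k * a⁻¹ = k ∨ a * k * a⁻¹ = t * k}
      one_mem' := Or.inl (by simp)
      mul_mem' := by
        rintro a b (ha | ha) (hb | hb) <;> simp only [Set.mem_ofPred_eq, em, hb]
        exacts [Or.inl ha, Or.inr (e2 a ha), Or.inr ha, Or.inl (e1 a ha)]
      inv_mem' := by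
        rintro a (ha | ha)
        · left
          conv_lhs => rw [← ha]
          group
        · right
          conv_lhs => rw [← e1 a ha]
          group }
  have mc : ∀ a : K, a ∈ centralizer ({k} : Set K) ↔ a * k * a⁻¹ = k := fun a => by
    rw [mem_centralizer_singleton_iff, mul_inv_eq_iff_eq_mul]
  have hle : centralizer ({k} : Set K) ≤ H := fun a ha => Or.inl ((mc a).1 ha)
  have hne : t * k ≠ k := fun e => t1 (by simpa using e)
  have h2 : (centralizer ({k} : Set K)).relIndex H = 2 := by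
    refine index_eq_two_iff.2 ⟨⟨n, Or.inr hn⟩, fun b => ?_⟩
    simp only [mem_subgroupOf, mc, coe_mul, em, hn]
    rcases b.2 with hb | hb
    · exact Or.inr ⟨hb, fun h => hne ((e2 _ hb).symm.trans h)⟩
    · exact Or.inl ⟨e1 _ hb, fun h => hne (hb.symm.trans h)⟩
  rw [← relIndex_mul_index hle, h2] at ho
  exact (Nat.not_odd_iff_even.2 (even_two_mul _)) ho

theorem autP {P : Subgroup (C k0)} (hP : P = Cq k0 v0) (β : MulAut P) (ht : q k0 0 v0 ∈ P)
    (h : β ⟨_, ht⟩ = ⟨_, ht⟩) : ∃ c, ∀ x, β x = c * x * c⁻¹ := by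
  subst hP
  exact Mult.autP_short sqNorm_tK β ⟨0, fun _ => h⟩

theorem v0_ne : v0 ≠ 0 := φ_ne_zero (by rw [sqNorm_tK]; omega) (by rw [sqNorm_tK]; omega)

theorem qf_v0 : qf v0 = 0 := Mult.qf_short sqNorm_tK

theorem tK_ne_one : tK ≠ 1 := fun e => v0_ne (q_inj (tK_eq.symm.trans (e.trans q_zero.symm))).2

theorem tK_ne_z : tK ≠ z k0 := fun e => v0_ne (q_inj (tK_eq.symm.trans e)).2

theorem conj_Q {a b : C k0} (ha : a ∈ Q k0) (hb : b ∈ Q k0) : a * b * a⁻¹ = b ∨ a * b * a⁻¹ = b * z k0 := by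
  obtain ⟨e, v, rfl⟩ := ha
  obtain ⟨f, w, rfl⟩ := hb
  rw [conj_q, cact_q]
  exact q_eq_or w

theorem exists_q0 : ∃ s ∈ Q k0, s * s = 1 ∧ s * tK * s⁻¹ = tK * z k0 := by
  obtain ⟨u, hu⟩ := exists_om v0_ne 1
  have key : ∀ u, om u v0 = 1 → qf u = 0 → ∃ s ∈ Q k0, s * s = 1 ∧ s * tK * s⁻¹ = tK * z k0 := fun u h1 h2 =>
    ⟨q k0 0 u, q_mem_Q _ _, q_mul_self_eq_one.2 h2, by rw [tK_eq, conj_q, cact_q, cε_q, h1, q_mul_z]⟩
  rcases z2_cases (qf u) with h | h
  · exact key u hu h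
  · refine key (u + v0) (by rw [om_add_left, hu, om_self, add_zero]) ?_
    rw [qf_add, h, qf_v0, hu]
    decide

theorem t1K_mem : t1K.1 ∈ Q k0 := by
  show tI k0 none (some 1) ∈ Q k0
  rw [std_k0.tI_eq]
  exact q_mem_Q _ _

theorem dK_mem : dK.1 ∈ Q k0 := by
  show t1K.1 * tI k0 (some 3) (some 5) ∈ Q k0
  rw [std_k0.tI_eq]
  exact mul_mem t1K_mem (q_mem_Q _ _)

end FusP

open FusP

variable {M G : Type*} [Group M] [Group G] {π : C k0 →* M} {τ : M} {φ : KK π τ →* G}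

theorem ι_inj (h : MS π τ) : Function.Injective (ιK π τ) := h.kr.inj

theorem ι_tc (h : MS π τ) (x : KK π τ) : x * ιK π τ tKK = ιK π τ tKK * x := h.kr.t_comm (gen_piR _ _) x

theorem ι_t2 (π : C k0 →* M) (τ : M) : ιK π τ tKK * ιK π τ tKK = 1 := by rw [← map_mul, tKK_mul_self, map_one]

theorem ι_z2 (π : C k0 →* M) (τ : M) : ιK π τ zK * ιK π τ zK = 1 := by rw [← map_mul, zK_mul_self, map_one]

theorem ι_t1 (h : MS π τ) : ιK π τ tKK ≠ 1 := fun e => tKK_ne_one (ι_inj h (e.trans (map_one _).symm))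

/-- an element of `R` conjugate to its product with `t` is conjugate to its product with `z` -/
theorem exists_conj_z (h : MS π τ) {r : CK} (hr : r.1 ∈ Q k0)
    (hc : IsConj (ιK π τ r) (ιK π τ tKK * ιK π τ r)) : ∃ y : CK, y.1 ∈ Q k0 ∧ y * r * y⁻¹ = r * zK := by
  by_contra! hn
  have h1 : ∀ y ∈ Q k0, y * tK = tK * y → y * r.1 = r.1 * y := fun y hy hy' => by
    rcases conj_Q hy hr with e | e
    · exact mul_inv_eq_iff_eq_mul.1 e
    · exact absurd (Subtype.ext e) (hn ⟨y, mem_CK.2 hy'⟩ hy)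
  have nz := h.kr.not_isConj (gen_piR _ _)
  rcases mem_of_comm_CK hr h1 with e | e | e | e
  · rw [show r = 1 from Subtype.ext e, map_one, mul_one] at hc
    exact ι_t1 h (isConj_one_right.1 hc)
  · rw [show r = zK from Subtype.ext e, ← ι_tc h] at hc
    exact nz hc
  · rw [show r = tKK from Subtype.ext e, ι_t2] at hc
    exact ι_t1 h (isConj_one_left.1 hc)
  · rw [show r = tKK * zK from Subtype.ext e, map_mul, ← mul_assoc, ι_t2, one_mul, ← ι_tc h] at hc
    exact nz hc.symm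

theorem Emb.mem (h : Emb φ) {g : G} (h1 : g * φ (ιK π τ tKK) = φ (ιK π τ tKK) * g) : ∃ k, φ k = g :=
  h.cent.ge (mem_centralizer_singleton_iff.2 h1)

theorem Emb.tc (h : Emb φ) (k : KK π τ) : φ k * φ (ιK π τ tKK) = φ (ιK π τ tKK) * φ k := by
  rw [← map_mul, ← map_mul, ι_tc h.ms]

theorem Emb.zc (φ : KK π τ →* G) (c : CK) : φ (ιK π τ c) * φ (ιK π τ zK) = φ (ιK π τ zK) * φ (ιK π τ c) := by
  rw [← map_mul, ← map_mul, ← map_mul, ← map_mul, zK_comm]

theorem Emb.t2 (φ : KK π τ →* G) : φ (ιK π τ tKK) * φ (ιK π τ tKK) = 1 := by rw [← map_mul, ι_t2, map_one]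

theorem Emb.z2 (φ : KK π τ →* G) : φ (ιK π τ zK) * φ (ιK π τ zK) = 1 := by rw [← map_mul, ι_z2, map_one]

theorem Emb.inj2 (h : Emb φ) {a b : CK} (e : φ (ιK π τ a) = φ (ιK π τ b)) : a = b := ι_inj h.ms (h.inj e)

theorem Emb.cen_tz (h : Emb φ) {g : G} (h1 : g * φ (ιK π τ tKK) = φ (ιK π τ tKK) * g)
    (h2 : g * φ (ιK π τ zK) = φ (ιK π τ zK) * g) : ∃ c : CK, φ (ιK π τ c) = g := by
  obtain ⟨k, rfl⟩ := h.mem h1
  rw [← map_mul, ← map_mul] at h2
  obtain ⟨c, rfl⟩ := (h.ms.kr.range_eq (gen_piR _ _)).ge (mem_centralizer_singleton_iff.2 (h.inj h2))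
  exact ⟨c, rfl⟩

/-- an element normalizing `⟨t, z⟩` induces an automorphism of `CK` -/
theorem Emb.exists_aut (h : Emb φ) {g : G}
    (hg : ∀ x : G, x * (g * φ (ιK π τ tKK) * g⁻¹) = g * φ (ιK π τ tKK) * g⁻¹ * x →
      x * (g * φ (ιK π τ zK) * g⁻¹) = g * φ (ιK π τ zK) * g⁻¹ * x →
      x * φ (ιK π τ tKK) = φ (ιK π τ tKK) * x ∧ x * φ (ιK π τ zK) = φ (ιK π τ zK) * x) :
    ∃ β : MulAut CK, ∀ c, φ (ιK π τ (β c)) = g * φ (ιK π τ c) * g⁻¹ := by
  have cj : ∀ a b : G, a * b = b * a → g * a * g⁻¹ * (g * b * g⁻¹) = g * b * g⁻¹ * (g * a * g⁻¹) :=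
    fun a b e => by rw [conj_mul, conj_mul, e]
  have : ∀ c : CK, ∃ c' : CK, φ (ιK π τ c') = g * φ (ιK π τ c) * g⁻¹ := fun c => by
    obtain ⟨h1, h2⟩ := hg _ (cj _ _ (h.tc _)) (cj _ _ (Emb.zc φ c))
    exact h.cen_tz h1 h2
  choose f hf using this
  let β : CK →* CK := MonoidHom.mk' f fun a b => h.inj2 (by simp only [map_mul, hf, conj_mul])
  have hi : Function.Injective β := fun a b e => h.inj2 (by
    have := congrArg (fun c => φ (ιK π τ c)) e
    simpa only [β, MonoidHom.mk'_apply, hf, mul_left_inj, mul_right_inj] using this)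
  exact ⟨MulEquiv.ofBijective β hi.bijective_of_finite, hf⟩

theorem Emb.not_isConj (h : Emb φ) : ¬ IsConj (φ (ιK π τ tKK)) (φ (ιK π τ zK)) := by
  intro hc
  have := h.ms.finite_K
  obtain ⟨g, hg⟩ := isConj_iff.1 hc.symm
  have cj : ∀ (g : G) (a b : G), a * b = b * a → g * a * g⁻¹ * (g * b * g⁻¹) = g * b * g⁻¹ * (g * a * g⁻¹) :=
    fun g a b e => by rw [conj_mul, conj_mul, e]
  have tz : tKK ≠ zK := fun e => tK_ne_z (congrArg Subtype.val e)
  obtain ⟨k, hk⟩ := h.mem (g := g * φ (ιK π τ tKK) * g⁻¹) (by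
    have := cj g _ _ (Emb.zc φ tKK)
    rwa [hg] at this)
  have k2 : k * k = 1 := h.inj (by rw [map_mul, hk, conj_mul, Emb.t2, map_one, mul_one, mul_inv_cancel])
  have k1 : k ≠ 1 := by
    rintro rfl
    rw [map_one, eq_comm, conj_eq_one_iff, ← map_one φ] at hk
    exact ι_t1 h.ms (h.inj hk)
  have kt : k ≠ ιK π τ tKK := by
    rintro rfl
    rw [← hg] at hk
    conv_rhs at hk => rw [hg]
    exact tz (h.inj2 (by simpa using hk.symm))
  -- the centralizer of `k` has odd index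
  have ho : Odd (centralizer ({k} : Set (KK π τ))).index := by
    have : ∀ c : CK, ∃ c' : KK π τ, φ c' = g * φ (ιK π τ c) * g⁻¹ := fun c =>
      h.mem (by
        have := cj g _ _ (Emb.zc φ c)
        rwa [hg] at this)
    choose f hf using this
    have hm : ∀ c, f c ∈ centralizer ({k} : Set (KK π τ)) := fun c =>
      mem_centralizer_singleton_iff.2 (h.inj (by
        rw [map_mul, map_mul, hf, hk]
        exact cj g _ _ (h.tc _)))
    have hb : Function.Bijective (fun c => (⟨f c, hm c⟩ : centralizer ({k} : Set (KK π τ)))) := by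
      refine ⟨fun a b e => h.inj2 ?_, fun x => ?_⟩
      · have := congrArg (fun c : centralizer ({k} : Set (KK π τ)) => φ c.1) e
        simpa only [hf, mul_left_inj, mul_right_inj] using this
      · have h1 := congrArg φ (mem_centralizer_singleton_iff.1 x.2)
        rw [map_mul, map_mul, hk] at h1
        have h2 := h.tc x.1
        rw [← hg] at h2
        obtain ⟨c, hc⟩ := h.cen_tz (g := g⁻¹ * φ x.1 * g) (by
          have := cj g⁻¹ _ _ h1
          simpa [mul_assoc] using this) (by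
          have := cj g⁻¹ _ _ h2
          simpa [mul_assoc] using this)
        exact ⟨c, Subtype.ext (h.inj (by rw [hf, hc]; group))⟩
    have h1 := (centralizer ({k} : Set (KK π τ))).index_mul_card
    rw [← Nat.card_eq_of_bijective _ hb, card_CK, h.ms.card_K] at h1
    have : (centralizer ({k} : Set (KK π τ))).index = 11707448673375 := by omega
    rw [this]
    decide
  have nk := not_isConj_of_odd ho (ι_t1 h.ms) (ι_t2 π τ) (ι_tc h.ms)
  have tr : ∀ r : KK π τ, IsConj r k → IsConj r (ιK π τ tKK * r) → False := fun r h1 h2 => by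
    obtain ⟨n, rfl⟩ := isConj_iff.1 h1
    refine nk (h1.symm.trans (h2.trans (isConj_iff.2 ⟨n, ?_⟩)))
    rw [← mul_assoc, ι_tc h.ms n]
    simp only [mul_assoc]
  obtain ⟨r, hr, n, hn⟩ : ∃ r : CK, (r = zK ∨ r = tKK * zK) ∧ ∃ n, n * ιK π τ r * n⁻¹ = k := by
    rcases cls h.ms k2 k1 with e | e | e | e | e
    · exact absurd e kt
    · exact ⟨_, Or.inl rfl, isConj_iff.1 e⟩
    · exact ⟨_, Or.inr rfl, by rw [map_mul]; exact isConj_iff.1 e⟩
    · exact (tr _ e (t1_mul h.ms)).elim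
    · exact (tr _ e (d_mul h.ms)).elim
  have g1 : (φ n)⁻¹ * g * φ (ιK π τ zK) * ((φ n)⁻¹ * g)⁻¹ = φ (ιK π τ tKK) := by
    have := h.tc n
    calc _ = (φ n)⁻¹ * (g * φ (ιK π τ zK) * g⁻¹) * φ n := by group
      _ = _ := by rw [hg, mul_assoc, ← this, inv_mul_cancel_left]
  have g2 : (φ n)⁻¹ * g * φ (ιK π τ tKK) * ((φ n)⁻¹ * g)⁻¹ = φ (ιK π τ r) := by
    calc _ = (φ n)⁻¹ * (g * φ (ιK π τ tKK) * g⁻¹) * φ n := by group
      _ = _ := by rw [← hk, ← hn, map_mul, map_mul, map_inv]; group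
  obtain ⟨β, hβ⟩ := h.exists_aut (g := (φ n)⁻¹ * g) (by
    rw [g1, g2]
    refine fun x h1 h2 => ⟨h2, ?_⟩
    rcases hr with rfl | rfl
    · exact h1
    · rw [map_mul, map_mul, ← mul_assoc, h2, mul_assoc, mul_assoc] at h1
      exact mul_left_cancel h1)
  have bz : β zK = tKK := h.inj2 (by rw [hβ, g1])
  have bt : β tKK = r := h.inj2 (by rw [hβ, g2])
  have tQ : tKK ∈ (Q k0).subgroupOf CK := tK_mem_Q
  have zQ : zK ∈ (Q k0).subgroupOf CK := z_mem_Q
  have hN : (((Q k0).subgroupOf CK).map (β : CK →* CK)).Normal :=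
    Normal.map inferInstance _ β.surjective
  have zN : zK ∈ ((Q k0).subgroupOf CK).map (β : CK →* CK) := by
    rcases hr with rfl | rfl
    · exact ⟨tKK, tQ, bt⟩
    · refine ⟨zK * tKK, mul_mem zQ tQ, ?_⟩
      show β (zK * tKK) = zK
      rw [map_mul, bz, bt, ← mul_assoc, tKK_mul_self, one_mul]
  obtain ⟨y, yQ, hy⟩ := exists_conj_z h.ms t1K_mem (t1_mul h.ms)
  have hy' : β y * β t1K * (β y)⁻¹ = β t1K * tKK := by rw [← bz, ← map_inv, ← map_mul, ← map_mul, hy, map_mul]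
  have : ∃ c ∈ ((Q k0).subgroupOf CK).map (β : CK →* CK), c.1 ∉ Q k0 := by
    by_contra! hn
    have e := congrArg Subtype.val hy'
    rcases conj_Q (hn _ ⟨y, yQ, rfl⟩) (hn _ ⟨t1K, t1K_mem, rfl⟩) with e' | e'
    · exact tKK_ne_one (by simpa using (e.symm.trans e'))
    · exact tK_ne_z (mul_left_cancel (e.symm.trans e'))
  obtain ⟨c, hc, hcQ⟩ := this
  have top := CK_normal_of_mem hN zN hc hcQ
  have hle : CK ≤ Q k0 := fun x hx => by
    obtain ⟨y, hy, e⟩ := top.ge (mem_top (β ⟨x, hx⟩))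
    rw [β.injective e] at hy
    exact hy
  have := card_le_of_le hle
  rw [card_CK, card_Q] at this
  omega

theorem Emb.conj_z (h : Emb φ) {w : G} (h1 : w * w = 1) (h2 : w ≠ 1)
    (h3 : w * φ (ιK π τ tKK) = φ (ιK π τ tKK) * w) (h4 : ¬ IsConj (φ (ιK π τ tKK)) w)
    (h5 : IsConj (φ (ιK π τ tKK)) (φ (ιK π τ tKK) * w)) : ∃ k, φ k * φ (ιK π τ zK) * (φ k)⁻¹ = w := by
  obtain ⟨k, rfl⟩ := h.mem h3
  have k2 : k * k = 1 := h.inj (by rw [map_mul, h1, map_one])
  have k1 : k ≠ 1 := fun e => h2 (by rw [e, map_one])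
  have mt : ∀ r : KK π τ, IsConj r k → IsConj (ιK π τ tKK * r) (ιK π τ tKK * k) := fun r h1 => by
    obtain ⟨n, rfl⟩ := isConj_iff.1 h1
    refine isConj_iff.2 ⟨n, ?_⟩
    rw [← mul_assoc, ι_tc h.ms n]
    simp only [mul_assoc]
  have tr : ∀ r : KK π τ, IsConj r k → IsConj r (ιK π τ tKK * r) → False := fun r h1 h2 => by
    have := φ.map_isConj (h1.symm.trans (h2.trans (mt r h1)))
    rw [map_mul] at this
    exact h4 (h5.trans this.symm)
  rcases cls h.ms k2 k1 with e | e | e | e | e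
  · exact absurd (e ▸ IsConj.refl _) h4
  · obtain ⟨n, rfl⟩ := isConj_iff.1 e
    exact ⟨n, by rw [map_mul, map_mul, map_inv]⟩
  · have := φ.map_isConj (mt _ e)
    rw [← mul_assoc, ι_t2, one_mul, map_mul] at this
    exact absurd (h5.trans this.symm) h.not_isConj
  · exact (tr _ e (t1_mul h.ms)).elim
  · exact (tr _ e (d_mul h.ms)).elim

theorem Emb.z1 (h : Emb φ) : φ (ιK π τ zK) ≠ 1 := fun e =>
  z_ne_one (congrArg Subtype.val (h.inj2 (e.trans (by rw [map_one, map_one] : φ (ιK π τ 1) = 1).symm)))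

/-- if `s` and `s z` are conjugate to `t`, then the pair `(s, z)` is conjugate to `(t, z)` -/
theorem Emb.exists_pair (h : Emb φ) {s : G} (h1 : IsConj (φ (ιK π τ tKK)) s)
    (h2 : IsConj (φ (ιK π τ tKK)) (s * φ (ιK π τ zK))) (h3 : s * φ (ιK π τ zK) = φ (ιK π τ zK) * s) :
    ∃ g : G, g * φ (ιK π τ tKK) * g⁻¹ = s ∧ g * φ (ιK π τ zK) * g⁻¹ = φ (ιK π τ zK) := by
  obtain ⟨g, rfl⟩ := isConj_iff.1 h1
  have cw : IsConj (φ (ιK π τ zK)) (g⁻¹ * φ (ιK π τ zK) * g) := isConj_iff.2 ⟨g⁻¹, by rw [inv_inv]⟩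
  obtain ⟨k, hk⟩ := h.conj_z (w := g⁻¹ * φ (ιK π τ zK) * g)
    (by simp only [mul_assoc, mul_inv_cancel_left]; rw [← mul_assoc (φ _), Emb.z2, one_mul, inv_mul_cancel])
    (fun e => h.z1 (isConj_one_left.1 (e ▸ cw)))
    (by
      have := congrArg (fun x => g⁻¹ * x * g) h3
      simpa [mul_assoc] using this.symm)
    (fun e => h.not_isConj (e.trans cw.symm))
    (h2.trans (isConj_iff.2 ⟨g⁻¹, by group⟩))
  refine ⟨g * φ k, ?_, ?_⟩
  · rw [mul_assoc g, h.tc k]; group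
  · calc _ = g * (φ k * φ (ιK π τ zK) * (φ k)⁻¹) * g⁻¹ := by group
      _ = _ := by rw [hk]; group

theorem Emb.isConj_tz [Finite G] [IsSimpleGroup G] (hG : ¬ IsMulCommutative G) (h : Emb φ) :
    IsConj (φ (ιK π τ tKK)) (φ (ιK π τ tKK) * φ (ιK π τ zK)) := by
  have t1 : φ (ιK π τ tKK) ≠ 1 := fun e => ι_t1 h.ms (h.inj (e.trans (map_one φ).symm))
  have ni := ZStar.not_isolated_of_simple hG (φ (ιK π τ tKK))
  rw [IsIsolatedInvolution, not_and, not_forall] at ni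
  obtain ⟨g, hg⟩ := ni (orderOf_eq_prime (by rw [pow_two, Emb.t2]) t1)
  obtain ⟨g1, g2⟩ := Classical.not_imp.1 hg
  obtain ⟨k, hk⟩ := h.mem g1.symm.eq
  have ck : IsConj (φ (ιK π τ tKK)) (φ k) := isConj_iff.2 ⟨g, hk.symm⟩
  have k2 : k * k = 1 := h.inj (by rw [map_mul, hk, conj_mul, Emb.t2, map_one, mul_one, mul_inv_cancel])
  have k1 : k ≠ 1 := by
    rintro rfl
    rw [map_one] at ck
    exact t1 (isConj_one_left.1 ck)
  have tr : ∀ r : CK, r.1 ∈ Q k0 → IsConj (ιK π τ r) k → IsConj (ιK π τ r) (ιK π τ tKK * ιK π τ r) →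
      IsConj (φ (ιK π τ tKK)) (φ (ιK π τ tKK) * φ (ιK π τ zK)) := fun r hr h1 h2 => by
    obtain ⟨y, -, hy⟩ := exists_conj_z h.ms hr h2
    have c1 := ck.trans (φ.map_isConj h1).symm
    have c2 : IsConj (φ (ιK π τ tKK)) (φ (ιK π τ r) * φ (ιK π τ zK)) := by
      rw [← map_mul, ← map_mul]
      exact c1.trans (φ.map_isConj ((ιK π τ).map_isConj (isConj_iff.2 ⟨y, hy⟩)))
    obtain ⟨a, a1, a2⟩ := h.exists_pair c1 c2 (Emb.zc φ r)
    exact c2.trans (isConj_iff.2 ⟨a, by rw [← conj_mul, a1, a2]⟩).symm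
  rcases cls h.ms k2 k1 with e | e | e | e | e
  · exact absurd (by rw [← hk, e]) g2
  · exact absurd (ck.trans (φ.map_isConj e).symm) h.not_isConj
  · rw [← map_mul]
    exact ck.trans (φ.map_isConj e).symm
  · exact tr _ t1K_mem e (t1_mul h.ms)
  · exact tr _ dK_mem e (d_mul h.ms)

theorem Emb.exists_ext [Finite G] [IsSimpleGroup G] (hG : ¬ IsMulCommutative G) (h : Emb φ) : ∃ ψ, Ext φ ψ := by
  obtain ⟨g, g1, g2⟩ := h.exists_pair (h.isConj_tz hG) (by
    rw [mul_assoc, Emb.z2, mul_one]) (by rw [mul_assoc, ← mul_assoc (φ (ιK π τ zK)), ← Emb.zc φ tKK, mul_assoc])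
  obtain ⟨β, hβ⟩ := h.exists_aut (g := g) (by
    rw [g1, g2]
    refine fun x h1 h2 => ⟨?_, h2⟩
    rw [← mul_assoc, mul_assoc (φ _), ← h2, ← mul_assoc] at h1
    exact mul_right_cancel h1)
  have bt : β tKK = tKK * zK := h.inj2 (by rw [hβ, g1, map_mul, map_mul])
  obtain ⟨s, sQ, s2, st⟩ := exists_q0
  have s1 : s⁻¹ = s := inv_eq_of_mul_eq_one_right s2
  have ss : ∀ x, s * (s * x) = x := fun x => by rw [← mul_assoc, s2, one_mul]
  have sH : cact s v0 = v0 := mem_Q_iff_cact.1 sQ v0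
  have sK : s ∉ CK := fun hs => by
    rw [mem_CK.1 hs, mul_inv_cancel_right] at st
    exact z_ne_one (by simpa using st)
  have εs : cε s v0 = 1 := by
    rcases z2_cases (cε s v0) with e | e
    · exact absurd (mem_CK_iff.2 ⟨e, sH⟩) sK
    · exact e
  have hcj : ∀ c : CK, s * c.1 * s ∈ CK := fun c => by
    obtain ⟨c1, c2⟩ := mem_CK_iff.1 c.2
    refine mem_CK_iff.2 ⟨?_, by rw [cact_mul, cact_mul, sH, c2, sH]⟩
    rw [cε_mul, sH, cε_mul, c1, c2, εs]
    decide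
  let γ : MulAut CK :=
    { toFun := fun c => ⟨_, hcj c⟩
      invFun := fun c => ⟨_, hcj c⟩
      left_inv := fun c => Subtype.ext (by simp only [mul_assoc, s2, ss, mul_one])
      right_inv := fun c => Subtype.ext (by simp only [mul_assoc, s2, ss, mul_one])
      map_mul' := fun a b => Subtype.ext (by simp only [coe_mul, mul_assoc, ss]) }
  have γv : ∀ c, (γ c).1 = s * c.1 * s := fun _ => rfl
  have γγ : ∀ c, γ (γ c) = c := γ.left_inv
  have γt : γ tKK = tKK * zK := Subtype.ext (by rw [s1] at st; exact st)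
  have γz : γ zK = zK := Subtype.ext (by
    rw [γv]
    show s * z k0 * s = z k0
    rw [z_comm, mul_assoc, s2, mul_one])
  have tz2 : tKK * zK * zK = tKK := by rw [mul_assoc, zK_mul_self, mul_one]
  obtain ⟨c, hc⟩ := autP (C1_eq _ _) (β.trans γ) (tK_eq ▸ tKK.2) (by
    have : (⟨q k0 0 v0, tK_eq ▸ tKK.2⟩ : CK) = tKK := Subtype.ext tK_eq.symm
    rw [this, MulEquiv.trans_apply, bt, map_mul, γt, γz, tz2])
  obtain ⟨g', hg'⟩ : ∃ g' : G, ∀ x, g' * φ (ιK π τ x) * g'⁻¹ = φ (ιK π τ (γ x)) := by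
    refine ⟨g * φ (ιK π τ c⁻¹), fun x => ?_⟩
    have e1 := hc (c⁻¹ * x * c)
    have e2 : γ x = β (c⁻¹ * x * c) := by
      rw [← γγ (β _), ← MulEquiv.trans_apply β γ, e1]
      congr 1
      group
    rw [e2, hβ]
    simp only [map_mul, map_inv]
    group
  obtain ⟨g'', hg'', gg⟩ : ∃ g' : G, (∀ x, g' * φ (ιK π τ x) * g'⁻¹ = φ (ιK π τ (γ x))) ∧ g' * g' = 1 := by
    have hsq : ∀ x, g' * g' * φ (ιK π τ x) = φ (ιK π τ x) * (g' * g') := fun x => by
      rw [← mul_inv_eq_iff_eq_mul]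
      calc _ = g' * (g' * φ (ιK π τ x) * g'⁻¹) * g'⁻¹ := by group
        _ = _ := by rw [hg', hg', γγ]
    obtain ⟨c₁, hc₁⟩ := h.cen_tz (hsq _) (hsq _)
    have cc : ∀ x, c₁ * x = x * c₁ := fun x => h.inj2 (by simp only [map_mul, hc₁, hsq])
    have cc' : ∀ y, y * tK = tK * y → y * c₁.1 = c₁.1 * y := fun y hy =>
      congrArg Subtype.val (cc ⟨y, mem_CK.2 hy⟩).symm
    have cQ : c₁.1 ∈ Q k0 := mem_Q_of_conj fun x _ hx => Or.inl (by rw [← cc' x hx, mul_inv_cancel_right])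
    have γc : γ c₁ = c₁ := h.inj2 (by rw [← hg', hc₁]; group)
    have z1 : zK ≠ 1 := fun e => z_ne_one (congrArg Subtype.val e)
    rcases mem_of_comm_CK cQ (fun y _ => cc' y) with e | e | e | e
    · exact ⟨g', hg', by rw [← hc₁, show c₁ = 1 from Subtype.ext e, map_one, map_one]⟩
    · refine ⟨g' * φ (ιK π τ tKK), fun x => ?_, ?_⟩
      · rw [← hg', mul_assoc g', ← h.tc]
        group
      · calc _ = g' * φ (ιK π τ tKK) * g'⁻¹ * (g' * g') * φ (ιK π τ tKK) := by group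
          _ = _ := by
            rw [hg', γt, ← hc₁, show c₁ = zK from Subtype.ext e, ← map_mul, ← map_mul, ← map_mul, ← map_mul, tz2,
              tKK_mul_self, map_one, map_one]
    · rw [show c₁ = tKK from Subtype.ext e, γt] at γc
      exact absurd (by simpa using γc) z1
    · rw [show c₁ = tKK * zK from Subtype.ext e, map_mul, γt, γz, tz2] at γc
      exact absurd (by simpa using γc) z1
  obtain ⟨ψ, p1, p2⟩ := exists_ext_two CK_le_Hv sH sK s2 (fun a ha hK => by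
      refine mem_CK_iff.2 ⟨?_, Hv.mul_mem ha sH⟩
      rw [cε_mul, εs, sH]
      rcases z2_cases (cε a v0) with e | e
      · exact absurd (mem_CK_iff.2 ⟨e, ha⟩) hK
      · rw [e]; decide) (φ.comp (ιK π τ)) (fun a b e => h.inj2 e) gg (by
      rintro ⟨c, rfl⟩
      have := hg'' tKK
      rw [γt, MonoidHom.comp_apply, h.tc, mul_inv_cancel_right] at this
      exact z_ne_one (congrArg Subtype.val (by simpa using h.inj2 this : zK = 1))) (fun k l e => by
      rw [show l = γ k from Subtype.ext e, MonoidHom.comp_apply, MonoidHom.comp_apply, ← hg'',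
        inv_mul_cancel_right])
  exact ⟨ψ, h, p1, p2, h.not_isConj⟩

end CfsgLib.StdM
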