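import Mathlib
import Cfsg.Agent.Lib.StdM.Defs

/-! STDM, package LEE (plans/STDM.md §LEE). -/

set_option autoImplicit false

namespace CfsgLib.StdM

open Cfsg CfsgLib.Leech CfsgLib.Mon CfsgLib.DCX Subgroup

/-- the class of a frame vector -/
def Four (w : V24) : Prop := ∃ v : leechLattice, sqNorm v.1 = 64 ∧ k0.φ v = w

theorem Four.cact {w : V24} (h : Four w) (c : C k0) : Four (cact c w) := by
  obtain ⟨v, h1, rfl⟩ := h
  obtain ⟨x, rfl⟩ := mk_surjective c
  exact ⟨x.g • v, by rw [sqNorm_smul, h1], by rw [cact_mk, k0.act_φ]⟩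

theorem Four.not_short {w : V24} (h : Four w) : ¬ IsShort k0 w := by
  obtain ⟨v, h1, rfl⟩ := h
  rintro ⟨u, h2, e⟩
  have := (k0.φ_eq_iff.1 e).sqNorm_eq (by omega) (by omega)
  omega

theorem sing_cases {w : V24} (h : qf w = 0) : w = 0 ∨ IsShort k0 w ∨ Four w := by
  obtain ⟨v, rfl⟩ := k0.surj w
  obtain ⟨y, h1, h2⟩ := MType.exists_short' v
  rw [k0.φ_eq_iff.2 h2] at h ⊢
  rw [k0.quad, qL_eq_zero] at h
  rcases MType.short_cases h1 with e | e | e | e
  · left; rw [e, map_zero]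
  · exact Or.inr (Or.inl ⟨y, e, rfl⟩)
  · omega
  · exact Or.inr (Or.inr ⟨y, e, rfl⟩)

theorem neg_V24 (x : V24) : -x = x := neg_eq_of_add_eq_zero_right (ww_add_self x)

theorem free24 {U : AddSubgroup V24} (h : ∀ u ∈ U, ¬ IsShort k0 u) : 24 ≤ U.index := by
  have hF : Function.Injective fun i : GolayPt => (QuotientAddGroup.mk (lam k0 i) : V24 ⧸ U) := by
    intro i j e
    by_contra k
    have := QuotientAddGroup.eq.1 e
    rw [neg_V24, ← φ_dlL] at this
    exact h _ this ⟨_, sqNorm_dlL k, rfl⟩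
  have := Nat.card_le_card_of_injective _ hF
  rwa [Nat.card_eq_fintype_card, card_pt] at this

theorem orth24 {U : AddSubgroup V24} (h1 : ∀ w ∈ U, IsShort k0 (v0 + w)) (h2 : ∀ w ∈ U, ¬ IsShort k0 w)
    (h3 : ∀ w ∈ U, qf w = 0) : Nat.card U ≤ 24 := by
  classical
  choose a ha hφ using fun w : U => h1 w w.2
  have hs : ∀ w w' : U, k0.φ (a w + a w') = w.1 + w'.1 := fun w w' => by
    rw [map_add, hφ, hφ, add_add_add_comm, ww_add_self, zero_add]
  have hd : ∀ w w' : U, w ≠ w' → dotInt (a w).1 (a w').1 = 0 := by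
    intro w w' hne
    have hm := U.add_mem w.2 w'.2
    have e0 : w.1 + w'.1 ≠ 0 := fun e => hne (Subtype.ext (by
      rw [← add_zero w.1, ← ww_add_self w'.1, ← add_assoc, e, zero_add]))
    have e1 := h3 _ hm
    rw [← hs, k0.quad, qL_eq_zero] at e1
    have n1 : sqNorm (a w + a w').1 = 64 + 2 * dotInt (a w).1 (a w').1 := by
      rw [AddSubgroup.coe_add, sqNorm_add, ha, ha]; ring
    have n2 : sqNorm (a w - a w').1 = 64 - 2 * dotInt (a w).1 (a w').1 := by
      rw [AddSubgroup.coe_sub, sqNorm_sub, ha, ha]; ring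
    have p2 : k0.φ (a w - a w') = w.1 + w'.1 := by rw [MonRec.φ_sub, ← map_add, hs]
    have a1 := sqNorm_nonneg (a w + a w').1
    have a2 := sqNorm_nonneg (a w - a w').1
    have b1 : sqNorm (a w + a w').1 ≠ 32 := fun e => h2 _ hm ⟨_, e, hs w w'⟩
    have b2 : sqNorm (a w - a w').1 ≠ 32 := fun e => h2 _ hm ⟨_, e, p2⟩
    have c1 : sqNorm (a w + a w').1 ≠ 0 := fun e => e0 (by
      rw [← hs, show a w + a w' = 0 from Subtype.ext (sqNorm_eq_zero e), map_zero])
    have c2 : sqNorm (a w - a w').1 ≠ 0 := fun e => e0 (by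
      rw [← p2, show a w - a w' = 0 from Subtype.ext (sqNorm_eq_zero e), map_zero])
    omega
  have := Fintype.ofFinite U
  have hl : LinearIndependent ℤ fun w : U => (a w).1 := by
    rw [Fintype.linearIndependent_iff]
    intro g hg j
    have := congrArg (AddMonoidHom.mk' (fun x => dotInt x (a j).1) fun x y => Leech.dotInt_add_left x y _) hg
    rw [map_sum, map_zero, Finset.sum_eq_single j] at this
    · simp only [AddMonoidHom.mk'_apply, dotInt_zsmul_left, dotInt_self, ha] at this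
      omega
    · intro i _ hi
      simp only [AddMonoidHom.mk'_apply, dotInt_zsmul_left, hd i j hi, mul_zero]
    · simp
  have := hl.fintype_card_le_finrank
  rwa [Module.finrank_fintype_fun_eq_card, card_pt, ← Nat.card_eq_fintype_card] at this

theorem gen_top {Y : Subgroup (C k0)} (h : Hv ≤ Y) {y : C k0} (hy : y ∈ Y) (h1 : cact y v0 = v0 + w0 k0) :
    Y = ⊤ := by
  obtain ⟨γ, hγ⟩ := exists_smul_eq_of_sqNorm Spor.leechU (dlL none (some 0))
    (by rw [sqNorm_tK, Leech.sqNorm_U]) (by rw [Leech.sqNorm_U]; norm_num)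
  let H : Subgroup Co0 := (Y.comap (mk k0)).map (Chat.toCo0 k0)
  have hH : H.comap (MulAut.conj γ).toMonoidHom = ⊤ := by
    obtain ⟨x, rfl⟩ := mk_surjective y
    have k : ∀ u : leechLattice, k0.φ u = v0 → x.g • dlL none (some 0) ≠ u := fun u hu e => by
      rw [cact_mk, k0.act_φ, e, hu] at h1
      exact w0_ne_zero (by simpa using h1.symm)
    refine eq_top_of_Co2_le (g := γ⁻¹ * x.g * γ) (fun g hg => ?_) ⟨x, hy, by simp [mul_assoc]⟩ ?_ ?_
    · obtain ⟨x', hx'⟩ := Chat.exists_g (κ := k0) (γ * g * γ⁻¹)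
      refine ⟨x', h ?_, hx'⟩
      show cact (mk k0 x') v0 = v0
      rw [cact_mk, k0.act_φ, hx', mul_smul, mul_smul, ← hγ, inv_smul_smul, show g • _ = _ from hg, hγ]
    · rw [mul_smul, mul_smul, hγ, Ne, inv_smul_eq_iff, hγ]
      exact k _ rfl
    · rw [mul_smul, mul_smul, hγ, Ne, inv_smul_eq_iff, smul_neg, hγ]
      exact k _ (k0.φ_neg _)
  rw [eq_top_iff]
  intro c _
  obtain ⟨x, rfl⟩ := mk_surjective c
  have : γ⁻¹ * x.g * γ ∈ H.comap (MulAut.conj γ).toMonoidHom := hH ▸ mem_top _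
  obtain ⟨x', h2, h3⟩ := this
  have h4 : x'.g = x.g := by simpa [mul_assoc] using h3
  have h5 : (mk k0 x')⁻¹ * mk k0 x ∈ Q k0 := by
    rw [← toCo1_eq_one, map_mul, map_inv, toCo1_mk, toCo1_mk, h4, inv_mul_cancel]
  simpa using Y.mul_mem h2 (h (mem_Q_iff_cact.1 h5 v0))

/-- twice an octad missing `∞` and `0` -/
def aD : leechLattice :=
  ⟨vec [0, 2, 0, 0, 0, 0, 0, 0, 0, 0, 0, 0, 2, 2, 2, 2, 2, 0, 0, 2, 0, 0, 2, 0], mem_of_chk (by decide +kernel)⟩

/-- an odd short vector -/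
def aS : leechLattice :=
  ⟨vec [1, 1, -1, 1, 1, -3, 1, 1, 1, 1, 1, 1, -1, -1, 1, -1, 1, 1, -1, 1, -1, 1, -1, -1],
    mem_of_chk (by decide +kernel)⟩

theorem φ_s : k0.φ (dlL none (some 0) + e8 (some 0)) = v0 + w0 k0 := by rw [map_add, φ_e8]

theorem wit_d : ∃ a, IsShort k0 a ∧ om a v0 = 0 ∧ om a (w0 k0) = 0 ∧ Four (a + (v0 + w0 k0)) ∧ Four (a + w0 k0) := by
  refine ⟨k0.φ aD, ⟨aD, by decide +kernel, rfl⟩, ?_, ?_,
    ⟨aD + (dlL none (some 0) + e8 (some 0)), by decide +kernel, by rw [map_add, φ_s]⟩,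
    ⟨aD - e8 (some 1), by decide +kernel, by rw [MonRec.φ_sub, φ_e8]⟩⟩
  · rw [k0.om_φ]; decide +kernel
  · rw [w0, k0.om_φ]; decide +kernel

theorem wit_s : ∃ a, ∃ c ∈ Hv, IsShort k0 a ∧ om a (v0 + w0 k0) = 0 ∧ om a (w0 k0) = 1 ∧ Four (a + (v0 + w0 k0)) ∧
    om (cact c (a + (v0 + w0 k0))) (v0 + w0 k0) = 0 ∧ Four (cact c (a + (v0 + w0 k0)) + (v0 + w0 k0)) := by
  obtain ⟨g, g1, g2⟩ := exists_pair_min (u := dlL none (some 0)) (x := dlL none (some 0) + e8 (some 0))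
    (v := dlL none (some 0)) (y := dlL (some 1) (some 3)) (by decide +kernel) (by decide +kernel)
    (by decide +kernel) (by decide +kernel) (by decide +kernel)
  obtain ⟨x, rfl⟩ := Chat.exists_g (κ := k0) g
  have c1 : cact (mk k0 x) v0 = v0 := by rw [cact_mk, k0.act_φ, g1]
  have c2 : cact (mk k0 x) (v0 + w0 k0) = k0.φ (dlL (some 1) (some 3)) := by
    rw [← φ_s, cact_mk, k0.act_φ, g2]
  have c3 : cact (mk k0 x) (cact (mk k0 x)⁻¹ (k0.φ aS) + (v0 + w0 k0)) =
      k0.φ (aS + dlL (some 1) (some 3)) := by rw [map_add, cact_cact_inv, c2, map_add]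
  have c4 : om (cact (mk k0 x)⁻¹ (k0.φ aS)) (v0 + w0 k0) = 0 := by
    rw [← om_cact (mk k0 x), cact_cact_inv, c2, k0.om_φ]; decide +kernel
  have c5 : om (cact (mk k0 x)⁻¹ (k0.φ aS)) v0 = 1 := by
    rw [← om_cact (mk k0 x), cact_cact_inv, c1, k0.om_φ]; decide +kernel
  refine ⟨cact (mk k0 x)⁻¹ (k0.φ aS), mk k0 x, c1, IsShort.cact ⟨aS, by decide +kernel, rfl⟩ _, c4, ?_, ?_, ?_, ?_⟩
  · rw [om_add_right, c5] at c4
    refine (z2_cases _).resolve_left fun e => ?_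
    rw [e] at c4
    exact absurd c4 (by decide)
  · rw [← cact_inv_cact (mk k0 x) (_ + _), c3]
    exact Four.cact ⟨_, by decide +kernel, rfl⟩ _
  · rw [c3, ← φ_s, k0.om_φ]; decide +kernel
  · rw [c3, ← φ_s]
    refine ⟨aS + dlL (some 1) (some 3) + (dlL none (some 0) + e8 (some 0)) - e8 (some 0) - e8 (some 1),
      by decide +kernel, ?_⟩
    rw [MonRec.φ_sub, MonRec.φ_sub, φ_e8, φ_e8, add_assoc, ww_add_self, add_zero, map_add]

theorem short_eq : {x : C k0 | ∃ e w, IsShort k0 w ∧ x = q k0 e w} = {y | IsConj tK y} := by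
  ext x
  constructor
  · rintro ⟨e, _, ⟨v, hv, rfl⟩, rfl⟩
    obtain ⟨c, hc⟩ := conj_short (κ := k0) sqNorm_tK hv 0 e
    exact isConj_iff.2 ⟨c, tK_eq ▸ hc⟩
  · intro h
    obtain ⟨c, rfl⟩ := isConj_iff.1 h
    exact ⟨_, _, IsShort.cact ⟨_, sqNorm_tK, rfl⟩ c, by rw [tK_eq, conj_q]⟩

/-- the class of `t` in `C` -/
theorem ncard_short : {x : C k0 | ∃ e w, IsShort k0 w ∧ x = q k0 e w}.ncard = 196560 := by
  have := finite_C (κ := k0)
  have h := ncard_isConj_mul tK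
  rw [show centralizer {tK} = CK from rfl, card_CK, card_C] at h
  rw [short_eq]
  exact Nat.eq_of_mul_eq_mul_right (by norm_num) (h.trans (by norm_num))

theorem Q_le_closure : Q k0 ≤ closure {x : C k0 | ∃ e w, IsShort k0 w ∧ x = q k0 e w} := by
  rw [short_eq]
  have : closure {y | IsConj tK y} = normalClosure {tK} := by
    rw [normalClosure]
    congr 1
    ext y
    simp [Group.mem_conjugatesOfSet_iff]
  rw [this]
  have ht : tK ∈ normalClosure {tK} := subset_normalClosure rfl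
  have h0 : v0 ≠ 0 := φ_ne_zero (by rw [sqNorm_tK]; norm_num) (by rw [sqNorm_tK]; norm_num)
  rcases normal_cases_C (normalClosure {tK}) with e | e | e | e <;> rw [e] at ht ⊢
  · rw [mem_bot, tK_eq, ← q_zero] at ht
    exact (h0 (q_inj ht).2).elim
  · refine (h0 (eq_zero_of_om fun u => ?_)).elim
    obtain ⟨k, hk⟩ := ht
    have : q k0 0 u * tK = tK * q k0 0 u := by
      rw [← hk]
      exact (Commute.zpow_right (z_comm _) k).eq
    rwa [tK_eq, q_comm_iff] at this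
  · exact le_top

end CfsgLib.StdM
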