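import Mathlib
import Cfsg.Agent.Lib.StdM.Defs
import Cfsg.Agent.Lib.MonRec.WcA

/-! STDM, package RANK (plans/STDM.md §RANK). -/

set_option autoImplicit false

namespace CfsgLib.StdM

open Cfsg CfsgLib.Leech CfsgLib.Mon CfsgLib.DCX Subgroup

/-- the classes orthogonal to `u` and `w` -/
def perp (u w : V24) : AddSubgroup V24 where
  carrier := {x | om x u = 0 ∧ om x w = 0}
  zero_mem' := ⟨om_zero_left _, om_zero_left _⟩
  add_mem' := fun ha hb => ⟨by rw [om_add_left, ha.1, hb.1, add_zero], by rw [om_add_left, ha.2, hb.2, add_zero]⟩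
  neg_mem' := fun {x} hx => by rwa [neg_eq_of_add_eq_zero_right (ww_add_self x)]

theorem mem_perp {u w x : V24} : x ∈ perp u w ↔ om x u = 0 ∧ om x w = 0 := Iff.rfl

theorem index_perp (u w : V24) : (perp u w).index ≤ 4 := by
  have : perp u w = ((omL u).prod (omL w)).ker := by
    ext x
    simp [mem_perp, omL_apply, Prod.ext_iff]
  rw [this, AddSubgroup.index_ker]
  refine (AddSubgroup.card_le_card_addGroup _).trans ?_
  rw [Nat.card_prod, Nat.card_zmod]

theorem perp_perp {u w x : V24} (h : ∀ y ∈ perp u w, om y x = 0) : x = 0 ∨ x = u ∨ x = w ∨ x = u + w := by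
  by_contra k
  obtain ⟨f, f1, f2⟩ := Submodule.exists_le_ker_of_notMem (p := Submodule.span (ZMod 2) {u, w}) (v := x) (by
    rw [Submodule.mem_span_pair]
    rintro ⟨a, b, rfl⟩
    apply k
    rcases z2_cases a with rfl | rfl <;> rcases z2_cases b with rfl | rfl <;> simp)
  obtain ⟨y, hy⟩ := exists_om_eq f.toAddMonoidHom
  refine f1 ((hy x).trans ((om_comm _ _).trans (h y ⟨?_, ?_⟩)))
  · exact (om_comm _ _).trans ((hy u).symm.trans (f2 (Submodule.subset_span (by simp))))
  · exact (om_comm _ _).trans ((hy w).symm.trans (f2 (Submodule.subset_span (by simp))))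

/-- six independent commutators -/
def P6 (g : Co0) : Prop := ∃ b d : Fin 6 → V24, ∀ i j, j ≤ i →
  om (k0.act g (b i) + b i) (d j) = if j = i then 1 else 0

theorem P6.transport {x t : Co0} (hx : P6 x) (h : IsConj (x : Spor.Co1) t) : P6 t := by
  refine MonRec.wc_transport ?_ ?_ h hx
  · rintro γ t ⟨b, d, h⟩
    refine ⟨fun i => k0.act γ (b i), fun i => k0.act γ (d i), fun i j hij => ?_⟩
    rw [k0.act_mul, k0.act_mul, k0.act_inv_act, ← map_add, k0.om_act, h i j hij]
  · rintro t ⟨b, d, h⟩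
    exact ⟨b, d, fun i j hij => by rw [k0.act_mul, k0.act_neg, h i j hij]⟩

theorem p6_of {g : Co0} {f : ℕ → ℕ} (h : Sim g f) (r c : Fin 6 → Fin 24)
    (e : ∀ i j : Fin 6, j ≤ i → (dotN (f (bas.getD (r i) 0)) (bas.getD (c j) 0) +
      dotN (bas.getD (r i) 0) (bas.getD (c j) 0)) % 16 = if j = i then 8 else 0) : P6 g := by
  refine ⟨fun i => k0.φ (bv (r i)), fun i => k0.φ (bv (c i)), fun i j hij => ?_⟩
  have h0 : Rep (bas.getD (r i) 0) (bv (r i)).1 := rep_toL (chkN_bas _ (r i).2)
  have h1 : Rep (bas.getD (c j) 0) (bv (c j)).1 := rep_toL (chkN_bas _ (c j).2)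
  have h2 := e i j hij
  rw [← (h _ _ (sqNorm_bv (r i)) h0).dot h1, ← h0.dot h1, ← Leech.dotInt_add_left,
    ← AddSubgroup.coe_add] at h2
  rw [k0.act_φ, ← map_add, k0.om_φ]
  split_ifs at h2 ⊢
  · refine (z2_cases _).resolve_left fun e0 => ?_
    rw [ipL_eq_zero] at e0
    omega
  · exact ipL_eq_zero.2 h2

theorem p6_z0 : P6 Co1Rec.z0 :=
  p6_of (f := Co1Rec.sgF 8241104) (Co1Rec.sim_sN (by decide +kernel)) ![0, 1, 4, 5, 6, 12] ![12, 5, 6, 3, 1, 0]
    (by decide +kernel)

theorem p6_c0 : P6 Co1Rec.c0 :=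
  p6_of Co1Rec.sim_c0 ![0, 1, 2, 3, 4, 8] ![0, 4, 3, 2, 1, 6] (by decide +kernel)

theorem p6_u0 : P6 Co1Rec.u0 :=
  p6_of Co1Rec.sim_u0 ![0, 1, 2, 11, 12, 22] ![2, 9, 0, 6, 1, 3] (by decide +kernel)

theorem om_smul' (a : ZMod 2) (x y : V24) : om (a • x) y = a * om x y := by
  rcases z2_cases a with rfl | rfl <;> simp

theorem P6.card {g : Co0} (h : P6 g) : 64 ≤ Nat.card (k0.act g + AddMonoidHom.id V24).range := by
  obtain ⟨b, d, h⟩ := h
  let F : (Fin 6 → ZMod 2) → (k0.act g + AddMonoidHom.id V24).range := fun S =>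
    ⟨∑ i, S i • (k0.act g (b i) + b i), sum_mem fun i _ => by
      rcases z2_cases (S i) with e | e <;> rw [e]
      · rw [zero_smul]; exact zero_mem _
      · rw [one_smul]; exact ⟨b i, rfl⟩⟩
  have hF : Function.Injective F := by
    intro S S' e
    have e1 : ∑ i, (S i - S' i) • (k0.act g (b i) + b i) = 0 := by
      simp only [sub_smul, Finset.sum_sub_distrib]
      exact sub_eq_zero.2 (congrArg Subtype.val e)
    have e2 : ∀ j, S j - S' j = 0 := by
      intro j
      induction j using WellFoundedLT.induction with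
      | ind j ih =>
        have := congrArg (omL (d j)) e1
        rw [map_sum, map_zero, Finset.sum_eq_single j] at this
        · rwa [omL_apply, om_smul', h j j le_rfl, if_pos rfl, mul_one] at this
        · intro i _ hi
          rw [omL_apply, om_smul']
          rcases lt_or_gt_of_ne hi with k | k
          · rw [ih i k, zero_mul]
          · rw [h i j k.le, if_neg k.ne, mul_zero]
        · simp
    exact funext fun j => sub_eq_zero.1 (e2 j)
  have := Nat.card_le_card_of_injective F hF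
  simpa using this

/-- involutions of `Co1` have rank at least six on the lattice modulo two -/
theorem rank_ge {c : C k0} (h2 : c * c ∈ Q k0) (h1 : c ∉ Q k0) :
    64 ≤ Nat.card (cact c + AddMonoidHom.id V24).range := by
  obtain ⟨x, rfl⟩ := mk_surjective c
  rw [← toCo1_eq_one] at h1 h2
  rw [map_mul] at h2
  rw [toCo1_mk] at h1 h2
  have : cact (mk k0 x) = k0.act x.g := AddMonoidHom.ext (cact_mk x)
  rw [this]
  rcases Co1Rec.inv3 h2 h1 with h | h | h
  exacts [(p6_z0.transport h).card, (p6_c0.transport h).card, (p6_u0.transport h).card]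

theorem mem_ker_N {c : C k0} {u : V24} : u ∈ (cact c + AddMonoidHom.id V24).ker ↔ cact c u = u := by
  show cact c u + u = 0 ↔ _
  constructor
  · intro h
    calc cact c u = cact c u + u + u := by rw [add_assoc, ww_add_self, add_zero]
      _ = u := by rw [h, zero_add]
  · intro h
    rw [h, ww_add_self]

theorem mem_Q_of_index {c : C k0} (h2 : c * c ∈ Q k0)
    (h : (cact c + AddMonoidHom.id V24).ker.index ≤ 32) : c ∈ Q k0 := by
  by_contra k
  have := rank_ge h2 k
  rw [AddSubgroup.index_ker] at h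
  omega

theorem mem_Q_of_two {c : C k0} {n : ℕ} (h2 : c ^ 2 ^ n ∈ Q k0) {U : AddSubgroup V24} (hU : U.index ≤ 32)
    (h : ∀ u ∈ U, cact c u = u) : c ∈ Q k0 := by
  induction n generalizing c with
  | zero => simpa using h2
  | succ n ih =>
    refine mem_Q_of_index (ih (by rwa [← pow_two, ← pow_mul, ← pow_succ']) fun u hu => ?_) ?_
    · rw [cact_mul, h u hu, h u hu]
    · exact (AddSubgroup.index_antitone fun u hu => mem_ker_N.2 (h u hu)).trans hU

theorem mem_Q_of_perp {c : C k0} (h2 : c * c ∈ Q k0) {u w s : V24}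
    (h : ∀ x ∈ perp u w, cact c x = x ∨ cact c x = x + s) : c ∈ Q k0 := by
  refine mem_Q_of_index h2 ?_
  set N := cact c + AddMonoidHom.id V24
  have h1 : N.ker.relIndex (perp u w) ≤ 2 := by
    rw [AddSubgroup.relIndex_ker]
    have : (((perp u w).map N : AddSubgroup V24) : Set V24) ⊆ {0, s} := by
      rintro _ ⟨x, hx, rfl⟩
      show cact c x + x ∈ ({0, s} : Set V24)
      rcases h x hx with e | e <;> rw [e]
      · exact Or.inl (ww_add_self x)
      · right
        show x + s + x = s
        rw [add_right_comm, ww_add_self, zero_add]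
    refine (Set.ncard_le_ncard this).trans ((Set.ncard_insert_le _ _).trans ?_)
    simp
  have h3 := AddSubgroup.relIndex_mul_index (inf_le_right : N.ker ⊓ perp u w ≤ _)
  rw [AddSubgroup.inf_relIndex_right] at h3
  have h4 := AddSubgroup.index_antitone (inf_le_left : N.ker ⊓ perp u w ≤ _)
  have h5 := Nat.mul_le_mul h1 (index_perp u w)
  omega

theorem jordan {c : C k0} (h4 : c * c * (c * c) ∈ Q k0)
    (h : ∀ x ∈ Q k0, x * tK = tK * x → x * (c * c) = c * c * x → x * c = c * x) : c * c ∈ Q k0 := by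
  classical
  by_contra k
  have h1 := rank_ge h4 k
  set N := cact c + AddMonoidHom.id V24 with hN
  set N2 := cact (c * c) + AddMonoidHom.id V24 with hN2
  have e1 : ∀ x, N2 x = N (N x) := fun x => by
    show cact (c * c) x + x = cact c (cact c x + x) + (cact c x + x)
    rw [map_add, cact_mul, add_assoc, ← add_assoc (cact c x), ww_add_self, zero_add]
  have e2 : ∀ x, N2 (N2 x) = 0 := fun x => by
    show cact (c * c) (cact (c * c) x + x) + (cact (c * c) x + x) = 0
    rw [map_add, ← cact_mul, mem_Q_iff_cact.1 h4, add_comm x, ww_add_self]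
  have e3 : ∀ u ∈ N2.ker, ∀ u' ∈ N2.ker, (om u v0, cε (c * c) u) = (om u' v0, cε (c * c) u') →
      N u = N u' := by
    intro u hu u' hu' e
    obtain ⟨a, b⟩ := Prod.mk.inj e
    have hs := mem_ker_N.1 (add_mem hu hu')
    have := h (q k0 0 (u + u')) (q_mem_Q _ _)
      (by rw [tK_eq, q_comm_iff, om_add_left, a, z2_add_self]) (comm_q_iff.2 ⟨by
        have := cε_add (c * c) u u'
        rw [mem_ker_N.1 hu, mem_ker_N.1 hu', b, z2_add_self] at this
        exact add_right_cancel this, hs⟩).symm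
    have := mem_ker_N.2 (comm_q_iff.1 this.symm).2
    rw [AddMonoidHom.mem_ker, map_add] at this
    rw [← add_zero (N u'), ← this, add_comm (N u), ← add_assoc, ww_add_self, zero_add]
  have h5 : Nat.card (N2.ker.map N) ≤ 4 := by
    let g : ZMod 2 × ZMod 2 → V24 := fun p =>
      if h : ∃ u ∈ N2.ker, (om u v0, cε (c * c) u) = p then N h.choose else 0
    have : ((N2.ker.map N : AddSubgroup V24) : Set V24) ⊆ g '' Set.univ := by
      rintro _ ⟨u, hu, rfl⟩
      have ex : ∃ u' ∈ N2.ker, (om u' v0, cε (c * c) u') = (om u v0, cε (c * c) u) := ⟨u, hu, rfl⟩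
      refine ⟨(om u v0, cε (c * c) u), trivial, ?_⟩
      show dite _ _ _ = _
      rw [dif_pos ex]
      exact e3 _ ex.choose_spec.1 _ hu ex.choose_spec.2
    refine (Set.ncard_le_ncard this).trans ((Set.ncard_image_le).trans ?_)
    rw [Set.ncard_univ, Nat.card_prod, Nat.card_zmod]
  have h6 : N2.range ≤ N2.ker := by
    rintro _ ⟨x, rfl⟩
    exact e2 x
  have h7 : Nat.card (N2.range.map N) ≤ 4 :=
    (AddSubgroup.card_le_of_le (AddSubgroup.map_mono h6)).trans h5
  have h8 : Nat.card (N.ker.addSubgroupOf N2.range) ≤ 4 := by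
    rw [← AddSubgroup.inf_addSubgroupOf_right,
      Nat.card_congr (AddSubgroup.addSubgroupOfEquivOfLe inf_le_right).toEquiv]
    refine (AddSubgroup.card_le_of_le ?_).trans h5
    rintro _ ⟨hx, x, rfl⟩
    refine ⟨N x, ?_, (e1 x).symm⟩
    show N2 (N x) = 0
    rw [e1, ← e1 x]
    exact hx
  have h9 := AddSubgroup.index_mul_card (N.ker.addSubgroupOf N2.range)
  rw [← AddSubgroup.relIndex, AddSubgroup.relIndex_ker] at h9
  have := Nat.mul_le_mul h7 h8
  omega

end CfsgLib.StdM
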