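import Mathlib
import Cfsg.Agent.Lib.StdM.Fus
import Cfsg.Agent.Lib.StdM.Rank
import Cfsg.Agent.Lib.StdM.Lee

/-! STDM, package X (plans/STDM.md §X). -/

set_option autoImplicit false

namespace CfsgLib.StdM

open Cfsg CfsgLib.Leech CfsgLib.Mon CfsgLib.DCX Subgroup

variable {M G : Type*} [Group M] [Group G] {π : C k0 →* M} {τ : M} {φ : KK π τ →* G} {ψ : Hv →* G}

namespace XP

theorem v0_ne : v0 ≠ 0 := φ_ne_zero (by rw [sqNorm_tK]; norm_num) (by rw [sqNorm_tK]; norm_num)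

theorem qf_v0 : qf v0 = 0 := Mult.qf_short sqNorm_tK

theorem om_v0_w0 : om v0 (w0 k0) = 0 := by
  rw [v0, φ_dlL, om_add_left, om_lam_w0, om_lam_w0]; decide

theorem om_w0_v0 : om (w0 k0) v0 = 0 := by rw [om_comm, om_v0_w0]

theorem qf_s : qf (v0 + w0 k0) = 0 := by rw [qf_add, qf_v0, qf_w0, om_v0_w0]; rfl

theorem v0_mem : v0 ∈ perp v0 (w0 k0) := ⟨om_self _, om_v0_w0⟩

theorem w0_mem : w0 k0 ∈ perp v0 (w0 k0) := ⟨om_w0_v0, om_self _⟩

theorem s_mem : v0 + w0 k0 ∈ perp v0 (w0 k0) := add_mem v0_mem w0_mem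

theorem add_add (a b : V24) : a + b + b = a := by rw [add_assoc, ww_add_self, add_zero]

theorem add_add' (a b : V24) : a + (a + b) = b := by rw [← add_assoc, ww_add_self, zero_add]

theorem q_mem_CK {w : V24} (e : ZMod 2) (hw : om w v0 = 0) : q k0 e w ∈ CK := by
  rw [mem_CK_iff, cε_q, cact_q]; exact ⟨hw, rfl⟩

theorem conj_qq (ψ : Hv →* G) (f e : ZMod 2) (u w : V24) :
    qG ψ f u * qG ψ e w * (qG ψ f u)⁻¹ = qG ψ (e + om u w) w := by
  have := conj_qG (ψ := ψ) ⟨q k0 f u, q_mem_Hv f u⟩ e w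
  rwa [cε_q, cact_q] at this

theorem qG_sq (ψ : Hv →* G) (e : ZMod 2) (w : V24) : qG ψ e w * qG ψ e w = qG ψ (qf w) 0 := by
  rw [qG, qG, ← map_mul]; exact congrArg ψ (Subtype.ext (q_mul_self _ _))

theorem qG_split (ψ : Hv →* G) (e : ZMod 2) (w : V24) : qG ψ e w = qG ψ e 0 * qG ψ 0 w := by
  rw [qG_mul, bet_zero_left, add_zero, add_zero, zero_add]

theorem psi_z (c : Hv) : ψ c * qG ψ 1 0 = qG ψ 1 0 * ψ c := by
  rw [qG, ← map_mul, ← map_mul]; exact congrArg ψ (Subtype.ext (z_comm _))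

theorem isConj_four (h : MS π τ) (e : ZMod 2) {w : V24} (hw : Four w) : IsConj (π (z k0)) (π (q k0 e w)) := by
  obtain ⟨v, h1, rfl⟩ := hw; exact h.am.isConj_four e h1

theorem not_isConj_short (h : MS π τ) (e : ZMod 2) {w : V24} (hw : IsShort k0 w) :
    ¬ IsConj (π (z k0)) (π (q k0 e w)) := fun k => h.not_isConj (k.trans (hw.isConj π e).symm)

theorem t_mul (π : C k0 →* M) (e : ZMod 2) (w : V24) :
    π tK * π (q k0 e w) = π (q k0 (0 + e + bet v0 w) (v0 + w)) := by rw [← map_mul, tK_eq, q_mul]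

/-- `y` fixes `w0` and interchanges `v0` and `v0 + w0` -/
structure Sw (y : C k0) : Prop where
  v : cact y v0 = v0 + w0 k0
  w : cact y (w0 k0) = w0 k0

theorem Sw.s {y : C k0} (h : Sw y) : cact y (v0 + w0 k0) = v0 := by rw [map_add, h.v, h.w, add_add]

theorem Sw.mem {y : C k0} (h : Sw y) {u : V24} (hu : u ∈ perp v0 (w0 k0)) : cact y u ∈ perp v0 (w0 k0) :=
  ⟨by rw [← h.s, om_cact, om_add_right, hu.1, hu.2, add_zero], by rw [← h.w, om_cact, hu.2]⟩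

theorem Sw.inv_mem {y : C k0} (h : Sw y) {u : V24} (hu : u ∈ perp v0 (w0 k0)) : cact y⁻¹ u ∈ perp v0 (w0 k0) :=
  ⟨by rw [← om_cact y, cact_cact_inv, h.v, om_add_right, hu.1, hu.2, add_zero],
    by rw [← om_cact y, cact_cact_inv, h.w, hu.2]⟩

theorem exists_y : ∃ (y : C k0) (u : V24), Sw y ∧ (y, q k0 0 u) ∈ Gam k0 := by
  obtain ⟨Y, hY⟩ := std_k0.exists_Y 0 cw_c0'
  refine ⟨mk k0 Y, _, ⟨?_, ?_⟩, mk_xq (κ := k0) 0 _ ▸ gam_Y hY⟩
  · rw [cact_mk, hY.g_eq, v0, k0.act_φ, ← φ_e8 (some 0), ← map_add]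
    refine congrArg _ (Subtype.ext (funext fun i => ?_))
    rw [sgnAut_smul_apply, AddSubgroup.coe_add, Pi.add_apply, dlL_apply, coe_e8, Pi.single_apply]
    simp only [Golay.mem_ofMask]
    revert i; decide +kernel
  · rw [cact_mk]; exact act_w0_iff.2 hY.mono

theorem qK (h : Ext φ ψ) (e : ZMod 2) (w : V24) (hw : q k0 e w ∈ CK) : φ (ιK π τ ⟨q k0 e w, hw⟩) = qG ψ e w :=
  h.qG_eq rfl

end XP

open XP

theorem Ext.mem_range (h : Ext φ ψ) {g : G} (hz : g * qG ψ 1 0 = qG ψ 1 0 * g) {e : ZMod 2}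
    (ht : g * qG ψ 0 v0 * g⁻¹ = qG ψ e v0) : ∃ c, ψ c = g := by
  obtain ⟨u, hu⟩ := exists_om v0_ne e
  have h1 := conj_qq ψ 0 0 u v0
  rw [zero_add, hu, ← ht] at h1
  obtain ⟨c, hc⟩ := h.toEmb.cen_tz (g := (qG ψ 0 u)⁻¹ * g) (by
      rw [h.t_eq]
      calc (qG ψ 0 u)⁻¹ * g * qG ψ 0 v0 = (qG ψ 0 u)⁻¹ * (g * qG ψ 0 v0 * g⁻¹) * g := by group
        _ = _ := by rw [← h1]; group) (by
      rw [h.z_eq, mul_assoc, hz, ← mul_assoc, ← mul_assoc, qG, ← map_inv, psi_z])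
  refine ⟨⟨q k0 0 u, q_mem_Hv _ _⟩ * inclusion CK_le_Hv c, ?_⟩
  rw [map_mul, h.ext, hc]; exact mul_inv_cancel_left _ _

theorem Ext.exists_x (h : Ext φ ψ) : ∃ (x : G) (y : C k0), cact y v0 = v0 + w0 k0 ∧ cact y (w0 k0) = w0 k0 ∧
    ∀ w ∈ perp v0 (w0 k0), ∀ e, x * qG ψ e w * x⁻¹ = qG ψ (e + cε y w) (cact y w) := by
  obtain ⟨y, u, hy, hg⟩ := exists_y
  have key : ∀ a b : CK, (a.1, b.1) ∈ Gam k0 →
      φ (τK' π τ) * ψ (inclusion CK_le_Hv b) * (φ (τK' π τ))⁻¹ = φ (ιK π τ a) := fun a b e => by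
    rw [h.ext, ← map_mul, ← h.ms.kr.am.gam a b e, map_mul, mul_inv_cancel_right]
  refine ⟨φ (τK' π τ) * qG ψ 0 u * (φ (τK' π τ))⁻¹, y, hy.v, hy.w, fun w hw e => ?_⟩
  obtain ⟨b, hb⟩ := std_k0.exists_gam (q_mem_Nxyz (e := e).2 hw.2)
  have hb' : b ∈ CK := (Mult.gam_CK hb).1 (q_mem_CK e hw.1)
  have h2 : (q k0 (e + cε y w) (cact y w), q k0 0 u * b * (q k0 0 u)⁻¹) ∈ Gam k0 := by
    rw [← conj_q]; exact (Gam k0).mul_mem ((Gam k0).mul_mem hg hb) ((Gam k0).inv_mem hg)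
  have h3 := q_mem_CK (e + cε y w) (hy.mem hw).1
  have k1 := key ⟨_, q_mem_CK e hw.1⟩ ⟨b, hb'⟩ hb
  have k2 := key ⟨_, h3⟩ ⟨_, (Mult.gam_CK h2).1 h3⟩ h2
  rw [qK h] at k1 k2
  rw [← k1, ← k2, show inclusion CK_le_Hv ⟨_, (Mult.gam_CK h2).1 h3⟩ =
    ⟨q k0 0 u, q_mem_Hv _ _⟩ * inclusion CK_le_Hv ⟨b, hb'⟩ * (⟨q k0 0 u, q_mem_Hv _ _⟩ : Hv)⁻¹ from rfl,
    map_mul, map_mul, map_inv, qG]
  group

theorem Ext.isConj_dz (h : Ext φ ψ) : IsConj (φ (ιK π τ dK)) (φ (ιK π τ zK)) := by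
  obtain ⟨x, y, h1, h2, hx⟩ := h.exists_x
  have hy : Sw y := ⟨h1, h2⟩
  obtain ⟨a, a1, a2, a3, a4, a5⟩ := wit_d
  have hb : a + (v0 + w0 k0) ∈ perp v0 (w0 k0) := add_mem ⟨a2, a3⟩ s_mem
  have k1 := cls_d h.ms (s := ιK π τ ⟨_, q_mem_CK 0 hb.1⟩) (isConj_four h.ms 0 a4) (by
    show IsConj _ (π tK * π (q k0 0 _))
    rw [t_mul, add_left_comm, add_add']; exact isConj_four h.ms _ a5)
  have k2 := cls_z h.ms (s := ιK π τ ⟨_, q_mem_CK (0 + cε y (a + (v0 + w0 k0))) (hy.mem hb).1⟩)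
    (isConj_four h.ms _ (a4.cact y)) (by
    show ¬ IsConj _ (π tK * π (q k0 _ _))
    rw [t_mul, map_add, hy.s, add_comm (cact y a), add_add']; exact not_isConj_short h.ms _ (a1.cact y))
  have k3 := φ.map_isConj k1
  have k4 := φ.map_isConj k2
  rw [qK h] at k3 k4
  exact k3.trans ((isConj_iff.2 ⟨x, hx _ hb 0⟩).trans k4.symm)

theorem Ext.star0 (h : Ext φ ψ) {k : KK π τ} (hk : IsConj (φ (ιK π τ tKK)) (φ k)) : IsConj (π tK) k.1 := by
  obtain ⟨g, hg⟩ := isConj_iff.1 hk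
  have t2 : φ (ιK π τ tKK) * φ (ιK π τ tKK) = 1 := by rw [← map_mul, ← map_mul, tKK_mul_self, map_one, map_one]
  have k2 : k * k = 1 := h.inj (by
    rw [map_mul, map_one, ← hg, show ∀ a : G, g * a * g⁻¹ * (g * a * g⁻¹) = g * (a * a) * g⁻¹ from fun a => by group, t2]
    group)
  have k1 : k ≠ 1 := fun e => by
    rw [e, map_one, isConj_one_left, map_eq_one_iff _ h.inj, map_eq_one_iff _ h.ms.kr.inj] at hk
    exact tKK_ne_one hk
  rcases cls h.ms k2 k1 with e | e | e | e | e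
  · rw [e]; exact IsConj.refl _
  · exact absurd (hk.trans (φ.map_isConj e).symm) h.nz
  · exact (MS.isConj_t_mul π).trans ((KK π τ).subtype.map_isConj e)
  · exact (isConj_t1 π).trans ((KK π τ).subtype.map_isConj e)
  · exact absurd ((hk.trans (φ.map_isConj e).symm).trans h.isConj_dz) h.nz

theorem Ext.short_of (h : Ext φ ψ) {e : ZMod 2} {w : V24} (hw : om w v0 = 0)
    (hc : IsConj (qG ψ 0 v0) (qG ψ e w)) : IsShort k0 w := by
  have := h.star0 (k := ιK π τ ⟨_, q_mem_CK e hw⟩) (by rwa [h.t_eq, qK h])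
  obtain ⟨e', v, hv, k⟩ := h.ms.short_of_isConj (q_mem_Q e w) this
  rwa [(q_inj k).2]

/-- a conjugate `s` of `t` commuting with `t` and `z`, with `s z` conjugate to `t`, lies in `Q` -/
theorem Ext.star (h : Ext φ ψ) {s : G} (h1 : s * qG ψ 0 v0 = qG ψ 0 v0 * s) (h2 : s * qG ψ 1 0 = qG ψ 1 0 * s)
    (h3 : IsConj (qG ψ 0 v0) s) (h4 : IsConj (qG ψ 0 v0) (s * qG ψ 1 0)) : s ∈ QG ψ := by
  rw [← h.t_eq] at h1 h3 h4
  rw [← h.z_eq] at h2 h4
  obtain ⟨c, rfl⟩ := h.toEmb.cen_tz h1 h2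
  rw [← map_mul] at h4
  obtain ⟨d, hd⟩ := h.ms.exists_eq_of_not_isConj (b := π c.1) (h.star0 h3) (by rw [← map_mul, z_comm, map_mul])
    fun k => h.ms.not_isConj (k.trans (h.star0 h4).symm)
  rw [← map_inv, ← map_mul, ← map_mul, tK_eq, conj_q] at hd
  exact mem_QG.2 ⟨_, _, h.qG_eq (h.ms.inj hd)⟩

namespace XP

/-- the data of `exists_x` -/
structure XD (ψ : Hv →* G) (x : G) (y : C k0) : Prop extends Sw y where
  act : ∀ w ∈ perp v0 (w0 k0), ∀ e, x * qG ψ e w * x⁻¹ = qG ψ (e + cε y w) (cact y w)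

variable {x : G} {y : C k0}

theorem XD.zero (d : XD ψ x y) (e : ZMod 2) : x * qG ψ e 0 * x⁻¹ = qG ψ e 0 := by
  rw [d.act 0 (zero_mem _), cε_zero, map_zero, add_zero]

theorem XD.norm (d : XD ψ x y) (h : Ext φ ψ) (u : V24) : ∃ e w, x * qG ψ 0 u * x⁻¹ = qG ψ e w := by
  have k : ∀ w ∈ perp v0 (w0 k0), ∀ e, x * qG ψ 0 u * x⁻¹ * qG ψ (e + cε y w) (cact y w) * (x * qG ψ 0 u * x⁻¹)⁻¹ =
      qG ψ (e + om u w + cε y w) (cact y w) := fun w hw e => by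
    rw [← d.act w hw, ← d.act w hw, ← conj_qq ψ 0]; group
  obtain ⟨c, hc⟩ := h.mem_range (g := x * qG ψ 0 u * x⁻¹) (e := cε y (v0 + w0 k0) + om u (v0 + w0 k0) + cε y (v0 + w0 k0))
    (by
      have := k 0 (zero_mem _) 1
      rw [cε_zero, map_zero, om_zero_right, add_zero, add_zero] at this
      exact mul_inv_eq_iff_eq_mul.1 this)
    (by
      have := k _ s_mem (cε y (v0 + w0 k0))
      rwa [z2_add_self, d.toSw.s] at this)
  have h2 : c.1 ^ 2 ^ 1 ∈ Q k0 := by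
    have : ψ (c * c) = qG ψ (qf u) 0 := by
      rw [map_mul, hc, ← d.zero, ← qG_sq ψ 0]; group
    rw [pow_one, pow_two, show c.1 * c.1 = q k0 (qf u) 0 from congrArg Subtype.val (h.inj' this)]
    exact q_mem_Q _ _
  obtain ⟨e, w, hw⟩ := mem_Q.1 (mem_Q_of_two h2 ((index_perp v0 (w0 k0)).trans (by norm_num)) fun w hw => by
    have := k _ (d.toSw.inv_mem hw) 0
    rw [← hc, conj_qG, cact_cact_inv] at this
    exact (h.qG_inj this).2)
  exact ⟨e, w, by rw [← hc]; exact congrArg ψ (Subtype.ext hw)⟩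

/-- `x` acts on `Q` by `X` and the signs `ε` -/
structure XA (ψ : Hv →* G) (x : G) (y : C k0) (ε : V24 → ZMod 2) (X : V24 → V24) : Prop extends XD ψ x y where
  inj : ∀ {e e' v w}, qG ψ e v = qG ψ e' w → e = e' ∧ v = w
  eq : ∀ u, x * qG ψ 0 u * x⁻¹ = qG ψ (ε u) (X u)

variable {ε : V24 → ZMod 2} {X : V24 → V24}

theorem XA.eq' (d : XA ψ x y ε X) (e : ZMod 2) (u : V24) : x * qG ψ e u * x⁻¹ = qG ψ (e + ε u) (X u) := by
  rw [qG_split, show ∀ a b : G, x * (a * b) * x⁻¹ = x * a * x⁻¹ * (x * b * x⁻¹) from fun a b => by group, d.toXD.zero,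
    d.eq, qG_mul, bet_zero_left, add_zero, zero_add]

theorem XA.add (d : XA ψ x y ε X) (u v : V24) : X (u + v) = X u + X v := by
  have := d.eq' (0 + 0 + bet u v) (u + v)
  rw [← qG_mul, show ∀ a b : G, x * (a * b) * x⁻¹ = x * a * x⁻¹ * (x * b * x⁻¹) from fun a b => by group, d.eq, d.eq,
    qG_mul] at this
  exact (d.inj this).2.symm

theorem XA.qf (d : XA ψ x y ε X) (u : V24) : qf (X u) = qf u := by
  have := d.toXD.zero (Mon.qf u)
  rw [← qG_sq ψ 0, show ∀ a b : G, x * (a * b) * x⁻¹ = x * a * x⁻¹ * (x * b * x⁻¹) from fun a b => by group, d.eq,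
    qG_sq, qG_sq] at this
  exact (d.inj this).1

theorem XA.om (d : XA ψ x y ε X) (u v : V24) : om (X u) (X v) = om u v := by
  have := d.qf (u + v)
  rw [d.add, qf_add, qf_add, d.qf, d.qf] at this
  exact add_left_cancel this

theorem XA.surj (d : XA ψ x y ε X) : Function.Surjective X :=
  Finite.surjective_of_injective fun u v e => eq_of_add_eq_zero' (eq_zero_of_om fun w => by
    rw [← d.om, d.add, e, ww_add_self, om_zero_right])

theorem XA.perp (d : XA ψ x y ε X) {u : V24} (hu : u ∈ perp v0 (w0 k0)) : X u = cact y u :=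
  (d.inj ((d.eq u).symm.trans (d.act u hu 0))).2

/-- the defect `y⁻¹ X u + u` -/
theorem XA.lam (d : XA ψ x y ε X) : ∃ l : V24 → V24, (∀ u, X u = cact y (u + l u)) ∧ (∀ u v, l (u + v) = l u + l v) ∧
    (∀ u ∈ StdM.perp v0 (w0 k0), l u = 0) ∧ (∀ u, Mon.om u (l u) = 0) ∧
    ∀ u, l u = 0 ∨ l u = v0 ∨ l u = w0 k0 ∨ l u = v0 + w0 k0 := by
  have h5 : ∀ u, u + cact y⁻¹ (X u) = 0 ∨ u + cact y⁻¹ (X u) = v0 ∨ u + cact y⁻¹ (X u) = w0 k0 ∨
      u + cact y⁻¹ (X u) = v0 + w0 k0 := fun u => perp_perp fun w hw => by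
    rw [om_add_right, ← om_cact y w (cact _ _), cact_cact_inv, ← d.perp hw, d.om, z2_add_self]
  refine ⟨fun u => u + cact y⁻¹ (X u), fun u => by rw [add_add', cact_cact_inv], fun u v => ?_, fun u hu => ?_,
    fun u => ?_, h5⟩
  · simp only; rw [d.add, map_add, add_add_add_comm]
  · simp only; rw [d.perp hu, cact_inv_cact, ww_add_self]
  · have h2 := qf_add u (u + cact y⁻¹ (X u))
    have h3 : Mon.qf (u + cact y⁻¹ (X u)) = 0 := by
      rcases h5 u with e | e | e | e <;> rw [e]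
      exacts [by simp [Mon.qf], qf_v0, qf_w0, qf_s]
    rw [add_add', qf_cact, d.qf, h3, add_zero] at h2
    exact left_eq_add.1 h2

theorem XA.cases (d : XA ψ x y ε X) : (∀ u, X u = cact y u) ∨
    ∀ u, Mon.om u v0 = 0 → Mon.om u (w0 k0) = 1 → X u = cact y u + (v0 + w0 k0) := by
  obtain ⟨l, h1, h2, h3, h4, h5⟩ := d.lam
  have k : ∀ u m, Mon.om u v0 = 0 → Mon.om u (w0 k0) = 1 → Mon.om u (l m) = 0 → l m = 0 ∨ l m = v0 :=
    fun u m a b c => by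
    rcases h5 m with e | e | e | e
    exacts [Or.inl e, Or.inr e, absurd (e ▸ c) (by rw [b]; decide),
      absurd (e ▸ c) (by rw [om_add_right, a, b]; decide)]
  by_cases hA : ∃ u, Mon.om u v0 = 0 ∧ Mon.om u (w0 k0) = 1 ∧ l u = 0
  · obtain ⟨u, a, b, c⟩ := hA
    refine Or.inl fun m => ?_
    have e1 := h4 (m + u)
    rw [h2, c, add_zero, om_add_left, h4, zero_add] at e1
    have : l m = 0 := by
      refine (k u m a b e1).elim id fun e => ?_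
      have e2 := h4 m
      rw [e] at e2
      rcases z2_cases (Mon.om m (w0 k0)) with e3 | e3
      · exact h3 m ⟨e2, e3⟩
      · have := h3 (m + u) ⟨by rw [om_add_left, e2, a, add_zero], by rw [om_add_left, e3, b]; rfl⟩
        rwa [h2, c, add_zero] at this
    rw [h1, this, add_zero]
  · refine Or.inr fun u a b => ?_
    rw [h1, (k u u a b (h4 u)).resolve_left fun e => hA ⟨u, a, b, e⟩, map_add, d.v]

/-- a short class orthogonal to `v0` whose sum with `v0` is a frame class lies under a conjugate of `t` -/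
theorem isConj_of (h : Ext φ ψ) {a : V24} (h1 : IsShort k0 a) (h2 : om a v0 = 0) (h3 : Four (a + v0)) :
    ∃ e, IsConj (qG ψ 0 v0) (qG ψ e a) := by
  have h4 : om (a + v0) v0 = 0 := by rw [om_add_left, h2, om_self, add_zero]
  obtain ⟨g, hg⟩ := isConj_iff.1 (cls_z h.ms (s := ιK π τ ⟨_, q_mem_CK 0 h4⟩) (isConj_four h.ms 0 h3) (by
    show ¬ IsConj _ (π tK * π (q k0 _ _))
    rw [t_mul, add_comm a, add_add']; exact not_isConj_short h.ms _ h1))
  have h5 : φ g ∈ centralizer {φ (ιK π τ tKK)} := h.cent ▸ ⟨g, rfl⟩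
  rw [mem_centralizer_singleton_iff, h.t_eq] at h5
  have h6 := congrArg φ hg
  rw [map_mul, map_mul, map_inv, h.z_eq, qK h] at h6
  obtain ⟨u, hu⟩ := exists_om v0_ne 1
  have h7 := conj_qq ψ 0 0 u v0
  refine ⟨0 + 0 + bet v0 (a + v0), (isConj_iff.2 ⟨_, h7⟩).trans (isConj_iff.2 ⟨φ g, ?_⟩)⟩
  have h8 := qG_mul (ψ := ψ) 0 0 v0 (a + v0)
  rw [add_comm a, add_add', add_comm v0 a] at h8
  rw [← h8, ← h6, zero_add, hu, ← mul_assoc, ← mul_assoc, ← h5, mul_assoc (φ g) (qG ψ 0 v0), qG_mul, bet_zero_right]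
  simp

theorem XA.not_two (d : XA ψ x y ε X) (h : Ext φ ψ)
    (k : ∀ u, Mon.om u v0 = 0 → Mon.om u (w0 k0) = 1 → X u = cact y u + (v0 + w0 k0)) : False := by
  obtain ⟨a, c, hc, a1, a2, a3, a4, a5, a6⟩ := wit_s
  have b1 : Mon.om (cact y⁻¹ a) v0 = 0 := by rw [← om_cact y, cact_cact_inv, d.v, a2]
  have b2 : Mon.om (cact y⁻¹ a) (w0 k0) = 1 := by rw [← om_cact y, cact_cact_inv, d.w, a3]
  obtain ⟨e, he⟩ := isConj_of h (a1.cact y⁻¹) b1 (by
    have := a4.cact y⁻¹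
    rwa [map_add, ← d.v, cact_inv_cact] at this)
  have s1 := he.trans (isConj_iff.2 ⟨x, d.eq' e _⟩)
  rw [k _ b1 b2, cact_cact_inv] at s1
  have s2 := s1.trans (isConj_iff.2 ⟨_, conj_qG ⟨c, hc⟩ _ _⟩)
  obtain ⟨a', ha'⟩ := d.surj (cact c (a + (v0 + w0 k0)))
  have c1 : Mon.om a' v0 = 0 := by rw [← d.om, ha', d.perp v0_mem, d.v, a5]
  have c2 : Mon.om a' (w0 k0) = 1 := by
    have e1 : Mon.om (cact c (a + (v0 + w0 k0))) v0 = 1 := by
      have := om_cact c (a + (v0 + w0 k0)) v0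
      rw [show cact c v0 = v0 from hc] at this
      rw [om_add_right, a3] at a2
      rw [this, om_add_left, s_mem.1, add_zero]
      revert a2; generalize Mon.om a v0 = t; revert t; decide
    rw [om_add_right, e1] at a5
    rw [← d.om, ha', d.perp w0_mem, d.w]
    revert a5; generalize Mon.om _ (w0 k0) = t; revert t; decide
  obtain ⟨f, s3⟩ : ∃ f, IsConj (qG ψ 0 v0) (qG ψ f a') := by
    have : ∀ f, IsConj (qG ψ (f + ε a') a') (qG ψ f (cact c (a + (v0 + w0 k0)))) := fun f =>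
      isConj_iff.2 ⟨x, by rw [d.eq', add_assoc, z2_add_self, add_zero, ha']⟩
    exact ⟨_, s2.trans (this _).symm⟩
  have s4 := (h.short_of c1 s3).cact y
  rw [← ha', k a' c1 c2, add_add] at a6
  exact a6.not_short s4

end XP

theorem Ext.exists_acts (h : Ext φ ψ) : ∃ x y, cact y v0 = v0 + w0 k0 ∧ Acts ψ x y := by
  obtain ⟨x, y, h1, h2, hx⟩ := h.exists_x
  have d : XD ψ x y := ⟨⟨h1, h2⟩, hx⟩
  choose ε X hX using d.norm h
  have d' : XA ψ x y ε X := ⟨d, h.qG_inj, hX⟩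
  refine ⟨x, y, h1, mul_inv_eq_iff_eq_mul.1 (d.zero 1), fun w => ⟨ε w, ?_⟩⟩
  rw [hX, d'.cases.resolve_right (d'.not_two h)]

end CfsgLib.StdM
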