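import Mathlib
import Cfsg.Agent.Lib.StdM.Defs

/-! STDM, package PW (plans/STDM.md §PW): elements of odd order generate `C_R(s)`. -/

set_option autoImplicit false

namespace CfsgLib.StdM

open Cfsg CfsgLib.Leech CfsgLib.Mon CfsgLib.DCX Subgroup

theorem vb_eq {m n : ℕ} (h : Nat.land m 16777215 = Nat.land n 16777215) : vb m = vb n := by
  rw [← vb_land m, ← vb_land n]; exact congrArg vb h

theorem φ_dl {i j : ℕ} (hi : i < 24) (hj : j < 24) : k0.φ (dlL (Golay.pt i) (Golay.pt j)) = vb (lamN i ^^^ lamN j) := by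
  rw [φ_dlL, lam_pt hi, lam_pt hj, vb_xor]

theorem v0_vb : v0 = vb 0x474000 := φ_dl (i := 23) (j := 0) (by norm_num) (by norm_num)

theorem t1K_vb : t1K.1 = q k0 0 (vb 0x477000) :=
  (std_k0.tI_eq _ _).trans (congrArg _ (φ_dl (i := 23) (j := 1) (by norm_num) (by norm_num)))

theorem dK_vb : ∃ e, dK.1 = q k0 e (vb 0x45f000) := ⟨_, by
  show t1K.1 * tI k0 (some 3) (some 5) = _
  rw [t1K_vb, std_k0.tI_eq, show k0.φ (dlL (some 3) (some 5)) = _ from φ_dl (i := 3) (j := 5) (by norm_num) (by norm_num),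
    q_mul, ← vb_xor]; rfl⟩

theorem cube_mem {c : C k0} {F : ℕ → ℕ} (h : Sm c F)
    (e : ∀ j < 24, Nat.land (F (F (F (2 ^ j)))) 16777215 = Nat.land (2 ^ j) 16777215) : c ^ 3 ∈ Q k0 := by
  have k : ∀ j < 24, cact (c ^ 3) (vb (2 ^ j)) = cact (1 : C k0) (vb (2 ^ j)) := fun j hj => by
    rw [pow_three, (h.mul (h.mul h)).cact, cact_one, vb_eq (e j hj)]
  exact mem_Q_iff_cact.2 fun v => (cact_ext (fun i => (q_inj (qN_X i)).2 ▸ k i (by omega))
    (fun i => (q_inj (qN_Z i)).2 ▸ k (12 + i) (by omega)) v).trans (cact_one v)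

theorem mem_of_three {s : CK} {e0 : ZMod 2} {σ : V24} (hs : s.1 = q k0 e0 σ) {c : C k0} (h3 : c ^ 3 ∈ Q k0)
    (h1 : cact c v0 = v0) (h2 : cact c σ = σ) (u : V24) :
    ∃ e, q k0 e (cact c u + u) ∈ (OddGen s).map CK.subtype := by
  have ha : ∀ v, cact (c ^ 4) v = cact c v := fun v => by rw [pow_succ', cact_mul, mem_Q_iff_cact.1 h3]
  have hw : (c ^ 4) ^ 3 = 1 := by
    obtain ⟨e, v, k⟩ := h3
    rw [← pow_mul, mul_comm, pow_mul, k, show 4 = 2 * 2 from rfl, pow_mul, sq, sq, q_mul_self, q_mul_self_eq_one]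
    simp [qf]
  have hc : ∀ v, cact c v = v → c ^ 4 ∈ Cq k0 v := fun v hv => by
    rw [show 4 = 2 * 2 from rfl, pow_mul]
    exact pow_mem (mem_Cq.2 ⟨by rw [sq, cε_mul, hv, z2_add_self], by rw [sq, cact_mul, hv, hv]⟩) 2
  have hq : ∀ {w v}, w ∈ Cq k0 v → q k0 0 u * w * (q k0 0 u)⁻¹ ∈ Cq k0 v := fun {w v} h => by
    rw [mem_Cq] at h ⊢
    simp only [q_inv, cε_mul, cact_mul, cact_q, cε_q, h.1, h.2, zero_add, z2_add_self, and_self]
  have key : ∀ w : C k0, w ^ 3 = 1 → w ∈ Cq k0 v0 → w ∈ Cq k0 σ → w ∈ (OddGen s).map CK.subtype := fun w a b d =>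
    ⟨⟨w, mem_CK_iff.2 (mem_Cq.1 b)⟩, subset_closure ⟨Odd.of_dvd_nat (by decide : Odd 3)
      (orderOf_dvd_of_pow_eq_one (Subtype.ext a)), Subtype.ext (by
        rw [← centralizer_q e0, mem_centralizer_singleton_iff, ← hs] at d; exact d.symm)⟩, rfl⟩
  have := mul_mem (key _ hw (hc _ h1) (hc _ h2)) (key (q k0 0 u * (c ^ 4)⁻¹ * (q k0 0 u)⁻¹)
    (by rw [conj_pow, inv_pow, hw]; group) (hq (inv_mem (hc _ h1))) (hq (inv_mem (hc _ h2))))
  rw [← mul_assoc, ← mul_assoc, conj_q, q_inv, q_mul, ha] at this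
  exact ⟨_, this⟩

/-- the test for the span -/
noncomputable def spanOK (F : ℕ → ℕ) (σ : ℕ) (M : List ℕ) : Prop := ∀ j < 24,
  Nat.land (apQ (imX ++ imZ) (M.getD j 0 % 16777216) ^^^ M.getD j 0 % 16777216 ^^^
      (F (M.getD j 0 / 16777216) ^^^ M.getD j 0 / 16777216)) 16777215 =
    Nat.land (2 ^ j ^^^ (betN (2 ^ j) 0x474000 + betN 0x474000 (2 ^ j)) % 2 * 5 ^^^
      (betN (2 ^ j) σ + betN σ (2 ^ j)) % 2 * 1) 16777215

theorem vb_par (n m : ℕ) : vb (n % 2 * m) = (n : ZMod 2) • vb m := by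
  rw [← ZMod.natCast_mod n 2]
  rcases Nat.mod_two_eq_zero_or_one n with h | h <;> rw [h]
  · rw [zero_mul, Nat.cast_zero, zero_smul]; exact vb_shift 0
  · rw [one_mul, Nat.cast_one, one_smul]

theorem pw_of {s : CK} {e0 : ZMod 2} {σ : ℕ} (hs : s.1 = q k0 e0 (vb σ)) {c : C k0} {F : ℕ → ℕ} (h : Sm c F)
    (h3 : c ^ 3 ∈ Q k0) (h1 : cact c v0 = v0) (h2 : cact c (vb σ) = vb σ) (h4 : cact cT (vb σ) = vb σ)
    (h5 : om (eX 11) (vb σ) = 0 ∧ om (eZ 11) (vb σ) = 0) {M : List ℕ} (hM : spanOK F σ M)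
    {x : CK} (hx : x.1 ∈ Q k0) (hc : Commute s x) : x ∈ OddGen s := by
  let A : AddSubgroup V24 :=
    { carrier := {u | ∃ e, q k0 e u ∈ (OddGen s).map CK.subtype}
      zero_mem' := ⟨0, q_zero (κ := k0) ▸ one_mem _⟩
      add_mem' := fun ⟨_, a⟩ ⟨_, b⟩ => ⟨_, q_mul (κ := k0) _ _ _ _ ▸ mul_mem a b⟩
      neg_mem' := fun {x} hx => by rwa [neg_eq_of_add_eq_zero_right (ww_add_self x)] }
  have k1 : ∀ j < 24, vb (2 ^ j) + om (vb (2 ^ j)) v0 • vb 5 + om (vb (2 ^ j)) (vb σ) • vb 1 ∈ A := fun j hj => by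
    have := vb_eq (hM j hj)
    simp only [vb_xor, vb_par, ← sm_cT.cact, ← h.cact, Nat.cast_add, ← bet_vb] at this
    rw [v0_vb, om, om, ← this]
    exact add_mem (mem_of_three hs (cube_mem sm_cT (by decide +kernel)) (mem_CK_iff.1 cT_mem_CK).2 h4 _)
      (mem_of_three hs h3 h1 h2 _)
  have k2 : ∀ v w, v + om v v0 • vb 5 + om v (vb σ) • vb 1 ∈ A → w + om w v0 • vb 5 + om w (vb σ) • vb 1 ∈ A →
      v + w + om (v + w) v0 • vb 5 + om (v + w) (vb σ) • vb 1 ∈ A := fun v w a b => by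
    convert add_mem a b using 1
    rw [om_add_left, om_add_left, add_smul, add_smul]; abel
  have k3 : ∀ v, om v v0 = 0 → om v (vb σ) = 0 → v ∈ A := fun v a b => by
    have : v + om v v0 • vb 5 + om v (vb σ) • vb 1 ∈ A :=
      ww_induction (p := fun v => v + om v v0 • vb 5 + om v (vb σ) • vb 1 ∈ A) (by simp)
        (fun v i a => k2 _ _ a ((q_inj (qN_X i)).2 ▸ k1 i (by omega)))
        (fun v i a => k2 _ _ a ((q_inj (qN_Z i)).2 ▸ k1 (12 + i) (by omega))) v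
    simpa [a, b] using this
  have kz : z k0 ∈ (OddGen s).map CK.subtype := by
    obtain ⟨e, a⟩ := k3 (eX 11) (by rw [v0_vb]; decide +kernel) h5.1
    obtain ⟨f, b⟩ := k3 (eZ 11) (by rw [v0_vb]; decide +kernel) h5.2
    have := mul_mem (mul_mem (mul_mem a b) (inv_mem a)) (inv_mem b)
    rwa [conj_q, cε_q, cact_q, show om (eX 11 : V24) (eZ 11) = 1 by decide +kernel, ← q_mul_z, z_comm,
      mul_inv_cancel_right] at this
  obtain ⟨e, v, k⟩ := hx
  obtain ⟨f, a⟩ := k3 v (by simpa [k] using (mem_CK_iff.1 x.2).1)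
    (by have := congrArg Subtype.val hc.symm.eq
        rw [coe_mul, coe_mul, k, hs] at this
        exact q_comm_iff.1 this)
  obtain ⟨y, hy, k'⟩ : x.1 ∈ (OddGen s).map CK.subtype :=
    (q_eq_or (e := f) (e' := e) v).elim (fun b => by rw [k, b]; exact a) fun b => by rw [k, b]; exact mul_mem a kz
  exact (Subtype.ext k' : y = x) ▸ hy

/-- images of the generators under an element of order three -/
def Lt : List ℕ := [0x9e1f6, 0x6b95d5, 0x79e468, 0x76440c, 0x1407f7, 0x96614, 0x767624, 0x3776a8, 0x2a02db, 0x12e5fb,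
  0x53e5d3, 0x800, 0x13f000, 0x13c000, 0x17e000, 0x387000, 0x4f8000, 0x12e000, 0x656000, 0x1be000, 0x3e000, 0x371000,
  0x68a000, 0x800000]

/-- images of the generators under an element of order three -/
def Ld : List ℕ := [0x1e281, 0x20f5a0, 0x43b384, 0x71f692, 0x6480, 0x5f9218, 0x7b750, 0x21b07f, 0x69710, 0x4de410,
  0x4d2190, 0x800, 0x49e000, 0x4bf000, 0x49b000, 0x49d000, 0x38c000, 0x497000, 0x4df000, 0x49f000, 0x6d0000, 0x5a1000,
  0x32b000, 0x800000]

theorem pw_t1 {x : CK} (hx : x.1 ∈ Q k0) (h : Commute t1K x) : x ∈ OddGen t1K := by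
  obtain ⟨y, -, -, k⟩ := exists_E_sm (a := 0xbb8529a98b2a6036d2c83d48f89820) (by decide +kernel) (L := Lt)
    (by decide +kernel) (by decide +kernel)
  exact pw_of t1K_vb k (cube_mem k (by decide +kernel)) (by rw [v0_vb, k.cact]; exact vb_eq (by decide +kernel))
    (by rw [k.cact]; exact vb_eq (by decide +kernel)) (by rw [sm_cT.cact]; exact vb_eq (by decide +kernel))
    (by decide +kernel) (M := [0x0, 0x47001bec, 0x0, 0x1820018b0, 0x198000808, 0x9a0010f7, 0x5d90009f7, 0xc0011dc,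
      0x480000a68, 0x4450009af, 0x4020010af, 0x14e001b6b, 0x528000058, 0x4660010f7, 0x421001235, 0x1740010af,
      0x43000128c, 0x910013a3, 0x6c001176, 0x5120011b1, 0x1b300112e, 0x1ce0012aa, 0xab0003cb, 0x154])
    (by unfold spanOK; decide +kernel) hx h

theorem pw_d {x : CK} (hx : x.1 ∈ Q k0) (h : Commute dK x) : x ∈ OddGen dK := by
  obtain ⟨y, -, -, k⟩ := exists_E_sm (a := 0xbbc935263543a47651b659870088a0) (by decide +kernel) (L := Ld)
    (by decide +kernel) (by decide +kernel)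
  exact pw_of dK_vb.choose_spec k (cube_mem k (by decide +kernel))
    (by rw [v0_vb, k.cact]; exact vb_eq (by decide +kernel))
    (by rw [k.cact]; exact vb_eq (by decide +kernel)) (by rw [sm_cT.cact]; exact vb_eq (by decide +kernel))
    (by decide +kernel) (M := [0x0, 0x1009100094a, 0x0, 0x10329001aaa, 0x10211000be5, 0x117001096, 0x9f000a6c,
      0x1021f00012f, 0x1940011aa, 0x1e001108, 0x1008f001aae, 0x10291001b28, 0x1af00014a, 0x1033e0011a6, 0x3af0001c2,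
      0x101000011a6, 0x103910011e5, 0x100110002ab, 0x33e001204, 0x23e0011e9, 0x1be000317, 0x102be00137f,
      0x10380001389, 0x154]) (by unfold spanOK; decide +kernel) hx h

theorem pw_z : OddGen zK = ⊤ := by
  have hn : (OddGen zK).Normal := ⟨fun x hx g => by
    induction hx using closure_induction with
    | mem x hx => exact subset_closure ⟨by rw [← MulAut.conj_apply, MulEquiv.orderOf_eq]; exact hx.1, (zK_comm _).symm⟩
    | one => simp
    | mul x y _ _ a b => convert mul_mem a b using 1; group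
    | inv x _ a => convert inv_mem a using 1; group⟩
  have hl : OddGen t1K ≤ OddGen zK := closure_mono fun w hw => ⟨hw.1, (zK_comm _).symm⟩
  have h3 : cT ^ 3 ∈ Q k0 := cube_mem sm_cT (by decide +kernel)
  refine CK_normal_of_mem hn (hl (pw_t1 z_mem_Q (zK_comm _))) (c := ⟨cT, cT_mem_CK⟩ ^ 4)
    (subset_closure ⟨Odd.of_dvd_nat (by decide : Odd 3) (orderOf_dvd_of_pow_eq_one (Subtype.ext ?_)), (zK_comm _).symm⟩)
    fun k => cT_notMem_Nx0 (Q_le_Nx0 ?_)
  · obtain ⟨e, v, k⟩ := h3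
    show (cT ^ 4) ^ 3 = 1
    rw [← pow_mul, mul_comm, pow_mul, k, show 4 = 2 * 2 from rfl, pow_mul, sq, sq, q_mul_self, q_mul_self_eq_one]
    simp [qf]
  · exact (mul_mem_cancel_left h3).1 (pow_succ cT 3 ▸ k)

end CfsgLib.StdM
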