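import Mathlib
import Cfsg.Agent.Lib.StdM.Abs
import Cfsg.Agent.Lib.HNR.TI

/-! STDM, package TI (plans/STDM.md §TI). -/

set_option autoImplicit false
set_option linter.unusedSectionVars false

namespace CfsgLib.StdM

open Subgroup
open scoped Pointwise

namespace TI

open CfsgLib.SylTools CfsgLib.HNR
open CfsgLib.HNR.TI (cj cj_inf cj_inj exists_not_mem)

section

variable {G : Type*} [Group G] [Finite G]

theorem card_mul_le {A B K : Subgroup G} (hA : A ≤ K) (hB : B ≤ K) :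
    Nat.card A * Nat.card B ≤ Nat.card K * Nat.card (A ⊓ B : Subgroup G) := by
  have h1 := Core.card_inf_mul_relIndex A B
  have h2 := Core.card_inf_mul_relIndex A K
  have h3 := relIndex_le_of_le_right (H := A) hB index_ne_zero_of_finite
  rw [inf_eq_left.2 hA] at h2
  rw [← h1, ← h2, mul_comm (Nat.card ↥(A ⊓ B)), ← mul_assoc]
  exact Nat.mul_le_mul_right _ (Nat.mul_le_mul_left _ h3)

/-- a block: the hypotheses modulo the central involution -/
structure Blk (k : ℕ) (T : Set G) (Q : Subgroup G) : Prop where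
  T2 : ∀ s ∈ T, s * s = 1
  Tconj : ∀ s ∈ T, ∀ g, g * s * g⁻¹ ∈ T
  Ttr : ∀ s ∈ T, ∀ s' ∈ T, IsConj s s'
  sq : ∀ a ∈ Q, a * a = 1
  gen : Q ≤ closure (T ∩ Q)
  norm : ∀ s ∈ T, s ∈ Q → ∀ x, x * s = s * x → x ∈ normalizer (Q : Set G)
  three : ∀ s ∈ T, s ∈ normalizer (Q : Set G) → s ∈ Q
  nk : ¬ 2 ^ (k + 1) ∣ (T ∩ Q).ncard
  free : ∀ W : Subgroup G, W ≤ Q → (∀ w ∈ W, w ∉ T) → 2 ^ (k + 1) * Nat.card W ≤ Nat.card Q

namespace Blk

variable {k : ℕ} {T : Set G} {A B Q : Subgroup G}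

theorem Tiff (h : Blk k T Q) (g s : G) : g * s * g⁻¹ ∈ T ↔ s ∈ T :=
  ⟨fun hs => by simpa [mul_assoc] using h.Tconj _ hs g⁻¹, fun hs => h.Tconj s hs g⟩

theorem Tiff' (h : Blk k T Q) (g s : G) : g⁻¹ * s * g ∈ T ↔ s ∈ T := by
  simpa using h.Tiff g⁻¹ s

theorem inv (h : Blk k T Q) {a : G} (ha : a ∈ Q) : a⁻¹ = a := inv_eq_of_mul_eq_one_right (h.sq a ha)

theorem comm (h : Blk k T Q) {a b : G} (ha : a ∈ Q) (hb : b ∈ Q) : a * b = b * a := by
  rw [← h.inv (mul_mem ha hb), mul_inv_rev, h.inv ha, h.inv hb]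

theorem pg (h : Blk k T Q) : IsPGroup 2 Q := fun a => ⟨1, Subtype.ext (by simpa [pow_two] using h.sq a a.2)⟩

theorem conj (h : Blk k T Q) (g : G) : Blk k T (cj g Q) := by
  have himg : T ∩ cj g Q = (MulAut.conj g).toMonoidHom '' (T ∩ Q) := by
    ext s
    constructor
    · rintro ⟨hs, a, ha, rfl⟩
      exact ⟨a, ⟨(h.Tiff g a).1 hs, ha⟩, rfl⟩
    · rintro ⟨a, ha, rfl⟩
      exact ⟨h.Tconj a ha.1 g, a, ha.2, rfl⟩
  have hle : ∀ W ≤ cj g Q, cj g⁻¹ W ≤ Q := fun W hW => map_conj_le_iff.2 fun x hx => by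
    simpa using mem_map_conj.1 (hW hx)
  have hT : ∀ W : Subgroup G, (∀ w ∈ W, w ∉ T) → ∀ w ∈ cj g⁻¹ W, w ∉ T := by
    rintro W hW _ ⟨w, hw, rfl⟩ e
    exact hW w hw ((h.Tiff g⁻¹ w).1 e)
  have hN : ∀ x, x ∈ normalizer (cj g Q : Set G) ↔ g⁻¹ * x * g ∈ normalizer (Q : Set G) := fun x => by
    rw [← map_normalizer_eq_of_bijective _ (MulAut.conj g).bijective, mem_map_conj]
  refine ⟨h.T2, h.Tconj, h.Ttr, ?_, ?_, fun s hs hsQ s' e => ?_, fun s hs hsQ => ?_, ?_,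
    fun W hW h1 => ?_⟩
  · rintro _ ⟨a, ha, rfl⟩
    rw [← map_mul, h.sq a ha, map_one]
  · rw [himg, ← MonoidHom.map_closure]
    exact map_mono h.gen
  · refine (hN _).2 (h.norm _ ((h.Tiff' g s).2 hs) (mem_map_conj.1 hsQ) _ ?_)
    calc g⁻¹ * s' * g * (g⁻¹ * s * g) = g⁻¹ * (s' * s) * g := by group
      _ = _ := by rw [e]; group
  · exact mem_map_conj.2 (h.three _ ((h.Tiff' g s).2 hs) ((hN _).1 hsQ))
  · rw [himg, Set.ncard_image_of_injective _
      (show Function.Injective (MulAut.conj g).toMonoidHom from (MulAut.conj g).injective)]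
    exact h.nk
  · rw [← card_map_conj W g⁻¹, card_map_conj Q]
    exact h.free _ (hle W hW) (hT W h1)

theorem star (h : Blk k T Q) (s : G) (hs : s ∈ T) (hsQ : s ∈ Q) (s' : G) (hs' : s' ∈ T)
    (e : s' * s = s * s') : s' ∈ Q := h.three s' hs' (h.norm s hs hsQ s' e)

theorem nonempty (h : Blk k T Q) : ∃ s ∈ T, s ∈ Q := by
  by_contra hn
  apply h.nk
  rw [Set.eq_empty_of_forall_notMem (s := T ∩ Q) fun s hs => hn ⟨s, hs.1, hs.2⟩, Set.ncard_empty]
  exact dvd_zero _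

theorem uniq (hA : Blk k T A) (hB : Blk k T B) {s : G} (hs : s ∈ T) (h1 : s ∈ A) (h2 : s ∈ B) :
    A = B :=
  le_antisymm
    (hA.gen.trans ((closure_le _).2 fun s' hs' => hB.star s hs h2 s' hs'.1 (hA.comm hs'.2 h1)))
    (hB.gen.trans ((closure_le _).2 fun s' hs' => hA.star s hs h1 s' hs'.1 (hB.comm hs'.2 h2)))

theorem exists_cj (h : Blk k T Q) {s : G} (hs : s ∈ T) : ∃ g, s ∈ cj g Q := by
  obtain ⟨s₀, h1, h2⟩ := h.nonempty
  obtain ⟨g, rfl⟩ := isConj_iff.1 (h.Ttr s₀ h1 s hs)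
  exact ⟨g, conj_mem_map_conj h2⟩

theorem card_eq (hA : Blk k T A) (hB : Blk k T B) : Nat.card A = Nat.card B := by
  obtain ⟨s, hs, h1⟩ := hB.nonempty
  obtain ⟨g, hg⟩ := hA.exists_cj hs
  rw [← (hA.conj g).uniq hB hs hg h1, card_map_conj]

theorem norm_of (h : Blk k T B) {s x : G} (hs : s ∈ T) (h1 : s ∈ B) (h2 : x * s * x⁻¹ ∈ B) :
    x ∈ normalizer (B : Set G) :=
  map_conj_eq_self_iff.1 ((h.conj x).uniq h (h.Tconj s hs x) (conj_mem_map_conj h1) h2)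

/-- step 2 -/
theorem two (h : Blk k T B) {x : G} (hx : x ∈ normalizer (B : Set G)) (hx2 : x * x = 1)
    (hW : ∀ w ∈ B, w * x = x * w → w ∉ T) :
    ∀ U ≤ B ⊓ centralizer {x}, ∃ P ≤ B, 2 ^ (k + 1) * Nat.card U ≤ Nat.card P ∧
      ∀ a ∈ P, a * (x * a * x⁻¹) ∈ U := by
  have hn : ∀ a ∈ B, x * a * x⁻¹ ∈ B := fun a ha => (mem_normalizer_iff.1 hx a).1 ha
  have hi : x⁻¹ = x := inv_eq_of_mul_eq_one_right hx2
  let φ : B →* G := MonoidHom.mk' (fun a => a * (x * a * x⁻¹)) fun a b => by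
    have := h.comm b.2 (hn a a.2)
    calc ((a * b : B) : G) * (x * (a * b : B) * x⁻¹) = a * (b * (x * a * x⁻¹)) * (x * b * x⁻¹) := by
          simp only [coe_mul]; group
      _ = _ := by rw [this]; group
  have hφ : ∀ a : B, φ a = a * (x * a * x⁻¹) := fun _ => rfl
  have hk : φ.ker = (centralizer {x}).subgroupOf B := by
    ext a
    rw [MonoidHom.mem_ker, hφ, mem_subgroupOf, mem_centralizer_singleton_iff,
      mul_eq_one_iff_inv_eq, h.inv a.2, eq_mul_inv_iff_mul_eq]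
  have hr : φ.range ≤ B ⊓ centralizer {x} := by
    rintro _ ⟨a, rfl⟩
    refine ⟨mul_mem a.2 (hn a a.2), mem_centralizer_singleton_iff.2 ?_⟩
    rw [hφ]
    calc a * (x * a * x⁻¹) * x = a * x * a := by group
      _ = x * (x * a * x⁻¹ * a) := by rw [hi, ← mul_assoc, ← mul_assoc, ← mul_assoc, hx2, one_mul]
      _ = _ := by rw [h.comm (hn a a.2) a.2]
  have h1 : Nat.card φ.ker = Nat.card ↥(B ⊓ centralizer {x}) := by
    rw [hk, Core.card_subgroupOf, inf_comm]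
  have h2 := φ.ker.card_mul_index
  rw [index_ker, h1] at h2
  have h3 := h.free (B ⊓ centralizer {x}) inf_le_left fun w hw =>
    hW w hw.1 (mem_centralizer_singleton_iff.1 hw.2)
  rw [← h2, mul_comm] at h3
  have h4 := Nat.le_of_mul_le_mul_left h3 Nat.card_pos
  refine fun U hU => ⟨(U.comap φ).map B.subtype, map_subtype_le _, ?_, ?_⟩
  · have := Core.card_map_mul_card_inf_ker φ (U.comap φ)
    rw [map_comap_eq, inf_eq_right.2 (ker_le_comap φ U), h1] at this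
    rw [card_map_of_injective B.subtype_injective, ← this, mul_comm (Nat.card _)]
    exact (Nat.mul_le_mul_right _ h4).trans (card_mul_le hr hU)
  · rintro _ ⟨a, ha, rfl⟩
    exact ha

/-- step 4 -/
theorem four (h : Blk k T B) {S : Subgroup G} (hS : IsPGroup 2 S) (hB : B ≤ S) :
    S ≤ normalizer (B : Set G) := by
  have : Fact (Nat.Prime 2) := ⟨Nat.prime_two⟩
  by_contra hn
  obtain ⟨g, hg, h1, h2⟩ := exists_mem_normalizer_not_mem hS
    (inf_le_left : S ⊓ normalizer (B : Set G) ≤ S) fun e => hn (e.ge.trans inf_le_right)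
  obtain ⟨s, hs, hsB⟩ := h.nonempty
  have h3 := (mem_normalizer_iff.1 h1 s).1 ⟨hB hsB, le_normalizer hsB⟩
  exact h2 ⟨hg, h.norm_of hs hsB (h.three _ (h.Tconj s hs g) h3.2)⟩

/-- step 5 -/
theorem five (hA : Blk k T A) (hB : Blk k T B) {a s : G} (ha : a ∈ A) (hs : s ∈ T) (hsB : s ∈ B)
    (e : a * s = s * a) : a ∈ B := by
  have : Fact (Nat.Prime 2) := ⟨Nat.prime_two⟩
  obtain ⟨y, hy, S, hS, hAS, -, -, h1⟩ := exists_conj_le_common (H := centralizer {a}) hA.pg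
    (fun b hb => mem_centralizer_singleton_iff.2 (hA.comm hb ha))
    (Tech.isPGroup_two_zpowers (hA.T2 s hs))
    (zpowers_le_of_mem (mem_centralizer_singleton_iff.2 e.symm))
  have h2 := hA.three _ (hA.Tconj s hs y) (hA.four hS hAS (h1 s (mem_zpowers s)))
  rw [← (hA.conj y⁻¹).uniq hB hs (mem_map_conj.2 (by simpa using h2)) hsB, mem_map_conj, inv_inv,
    mem_centralizer_singleton_iff.1 hy, mul_inv_cancel_right]
  exact ha

/-- step 6 -/
theorem six (hA : Blk k T A) (hB : Blk k T B) :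
    Nat.card ↥(A ⊓ normalizer (B : Set G)) ≤ 2 ^ k * Nat.card ↥(A ⊓ B) := by
  have : Fact (Nat.Prime 2) := ⟨Nat.prime_two⟩
  obtain ⟨s, hs, h1⟩ : ∃ s ∈ T ∩ B,
      ¬ 2 ^ (k + 1) ∣ (centralizer ({s} : Set G)).relIndex (A ⊓ normalizer (B : Set G)) := by
    by_contra hn
    push Not at hn
    exact hB.nk (dvd_ncard_conj (fun g hg s hs =>
      ⟨hB.Tconj s hs.1 g, (mem_normalizer_iff.1 (mem_inf.1 hg).2 s).1 hs.2⟩) hn)
  obtain ⟨j, hk⟩ := (hA.pg.to_le (inf_le_left : A ⊓ normalizer (B : Set G) ≤ A)).index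
    ((centralizer {s}).subgroupOf _)
  rw [← Core.card_inf_mul_relIndex (centralizer {s}), mul_comm]
  refine Nat.mul_le_mul ?_ (card_le_of_le fun a ha => ⟨ha.2.1,
    hA.five hB ha.2.1 hs.1 hs.2 (mem_centralizer_singleton_iff.1 ha.1)⟩)
  rw [relIndex, hk] at h1 ⊢
  have h2 : j ≤ k := by
    by_contra h3
    exact h1 (pow_dvd_pow 2 (show k + 1 ≤ j by omega))
  exact Nat.pow_le_pow_right two_pos h2

end Blk

/-- a pair of distinct blocks with intersection of maximal order -/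
structure Max (k : ℕ) (T : Set G) (A B : Subgroup G) : Prop where
  hA : Blk k T A
  hB : Blk k T B
  ne : A ≠ B
  max : ∀ A' B', Blk k T A' → Blk k T B' → A' ≠ B' → Nat.card ↥(A' ⊓ B') ≤ Nat.card ↥(A ⊓ B)

namespace Max

variable {k : ℕ} {T : Set G} {A B : Subgroup G}

theorem symm (h : Max k T A B) : Max k T B A :=
  ⟨h.hB, h.hA, h.ne.symm, fun A' B' h1 h2 h3 => inf_comm A B ▸ h.max A' B' h1 h2 h3⟩

theorem conj (h : Max k T A B) (g : G) : Max k T (cj g A) (cj g B) :=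
  ⟨h.hA.conj g, h.hB.conj g, fun e => h.ne (cj_inj e), fun A' B' h1 h2 h3 => by
    rw [← cj_inf, card_map_conj]; exact h.max A' B' h1 h2 h3⟩

theorem of_le (h : Max k T A B) {A' B' : Subgroup G} (h1 : Blk k T A') (h2 : Blk k T B') (h3 : A' ≠ B')
    (hle : A ⊓ B ≤ A' ⊓ B') : Max k T A' B' :=
  ⟨h1, h2, h3, fun A'' B'' a b c => (h.max A'' B'' a b c).trans (card_le_of_le hle)⟩

theorem eq_of (h : Max k T A B) {A' B' : Subgroup G} (h1 : Blk k T A') (h2 : Blk k T B')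
    (hle : A ⊓ B ≤ A' ⊓ B') {x : G} (hx : x ∈ A' ⊓ B') (hx' : x ∉ A ⊓ B) : A' = B' := by
  by_contra h3
  exact hx' ((eq_of_le_of_card_ge hle (h.max A' B' h1 h2 h3)).ge hx)

theorem le_cj (_h : Max k T A B) {D : Subgroup G} (hD : A ⊓ B ≤ D) {g : G}
    (hg : g ∈ centralizer ((A ⊓ B : Subgroup G) : Set G)) : A ⊓ B ≤ cj g D := fun u hu => by
  rw [mem_map_conj, mul_assoc, mem_centralizer_iff.1 hg u hu, inv_mul_cancel_left]
  exact hD hu

theorem le_cent (h : Max k T A B) : A ≤ centralizer ((A ⊓ B : Subgroup G) : Set G) :=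
  fun _ ha => mem_centralizer_iff.2 fun _ hu => h.hA.comm hu.1 ha

theorem le_cent' (h : Max k T A B) : B ≤ centralizer ((A ⊓ B : Subgroup G) : Set G) :=
  fun _ ha => mem_centralizer_iff.2 fun _ hu => h.hB.comm hu.2 ha

/-- an element centralising `U` and mapping an element of `D ∖ U` into `D` normalises `D` -/
theorem norm_of (h : Max k T A B) {D : Subgroup G} (hD : Blk k T D) (hU : A ⊓ B ≤ D) {g a : G}
    (hg : g ∈ centralizer ((A ⊓ B : Subgroup G) : Set G)) (ha : a ∈ D) (ha' : g * a * g⁻¹ ∈ D)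
    (hn : g * a * g⁻¹ ∉ A ⊓ B) : g ∈ normalizer (D : Set G) :=
  map_conj_eq_self_iff.1 (h.eq_of (hD.conj g) hD (le_inf (h.le_cj hU hg) hU)
    ⟨conj_mem_map_conj ha, ha'⟩ hn)

/-- step 7 -/
theorem seven (h : Max k T A B) {x : G} (hx : x ∈ B) (hn : x ∈ normalizer (A : Set G)) : x ∈ A := by
  by_contra hxA
  have h1 := h.hA.two hn (h.hB.sq x hx) fun w hw e hT =>
    hxA (h.hB.five h.hA hx hT hw e.symm)
  obtain ⟨P, hP, h2, h3⟩ := h1 (A ⊓ B) fun u hu =>
    ⟨hu.1, mem_centralizer_singleton_iff.2 (h.hB.comm hu.2 hx)⟩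
  have h4 : P ≤ A ⊓ normalizer (B : Set G) := fun a ha => by
    have e : a * x * a⁻¹ = a * (x * a * x⁻¹) * x := by rw [h.hA.inv (hP ha)]; group
    refine ⟨hP ha, h.norm_of h.hB inf_le_right (h.le_cent (hP ha)) hx ?_ ?_⟩
    · rw [e]; exact mul_mem (h3 a ha).2 hx
    · rw [e, mul_mem_cancel_left (h3 a ha)]; exact fun e => hxA e.1
  have h5 := Nat.le_of_mul_le_mul_right (h2.trans ((card_le_of_le h4).trans (h.hA.six h.hB)))
    Nat.card_pos
  exact absurd ((Nat.pow_le_pow_iff_right one_lt_two).1 h5) (by omega)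

/-- step 8 -/
theorem eight (h : Max k T A B) {a a' : G} (ha : a ∈ A) (h1 : a ∉ A ⊓ B) (ha' : a' ∈ A)
    (h1' : a' ∉ A ⊓ B) : ∃ g ∈ centralizer ((A ⊓ B : Subgroup G) : Set G),
      g ∈ normalizer (A : Set G) ∧ a'⁻¹ * (g * a * g⁻¹) ∈ A ⊓ B := by
  set U := A ⊓ B with hU
  set Y := centralizer (U : Set G) with hY
  have : (U.subgroupOf Y).Normal := ⟨fun u hu g => by
    rw [mem_subgroupOf] at hu ⊢
    rw [coe_mul, coe_mul, ← mem_centralizer_iff.1 g.2 u hu, coe_inv, mul_inv_cancel_right]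
    exact hu⟩
  let ψ := QuotientGroup.mk' (U.subgroupOf Y)
  have hψ : ∀ x y : Y, ψ x = ψ y ↔ (x : G)⁻¹ * y ∈ U := fun x y => QuotientGroup.eq
  have hψ1 : ∀ x : Y, ψ x = 1 ↔ (x : G) ∈ U := fun x => QuotientGroup.eq_one_iff x
  have hsq : ∀ (D : Subgroup G), Blk k T D → ∀ x : Y, (x : G) ∈ D → ψ x * ψ x = 1 :=
    fun D hD x hx => by rw [← map_mul, hψ1, coe_mul, hD.sq _ hx]; exact one_mem _
  have hmem : ∀ (D : Subgroup G), U ≤ D → ∀ x y : Y, ψ x = ψ y → (x : G) ∈ D → (y : G) ∈ D :=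
    fun D hD x y e hx => (mul_mem_cancel_left (inv_mem hx)).1 (hD ((hψ x y).1 e))
  have hnorm : ∀ (D : Subgroup G), Blk k T D → U ≤ D → ∀ g x y : Y, (x : G) ∈ D → (y : G) ∈ D →
      (y : G) ∉ U → ψ g * ψ x * (ψ g)⁻¹ = ψ y → (g : G) ∈ normalizer (D : Set G) := by
    intro D hD hUD g x y hx hy hy' e
    rw [← map_inv, ← map_mul, ← map_mul] at e
    exact h.norm_of hD hUD g.2 hx (hmem D hUD _ _ e.symm hy) fun e' =>
      hy' (hmem U le_rfl _ _ e e')
  obtain ⟨b, hb, hb1⟩ : ∃ b ∈ B, b ∉ U := by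
    by_contra hn
    push Not at hn
    exact h.ne (eq_of_le_of_card_ge (fun b hb => (hn b hb).1) (h.hA.card_eq h.hB).le).symm
  let b' : Y := ⟨b, h.le_cent' hb⟩
  have key : ∀ x : Y, (x : G) ∈ A → (x : G) ∉ U → IsConj (ψ b') (ψ x) := by
    intro x hx hx1
    have s1 := hsq A h.hA x hx
    have s2 := hsq B h.hB b' hb
    rcases Nat.even_or_odd (orderOf (ψ x * ψ b')) with he | ho
    swap
    · obtain ⟨j, hk⟩ := Tech.exists_pow_conj_of_odd s1 s2 ho
      exact isConj_iff.2 ⟨_, hk⟩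
    exfalso
    obtain ⟨m, m1, m2, m3, m4⟩ := Tech.exists_central_of_even s1 s2 he
    simp only [← map_mul, ← map_pow] at m1 m2 m3
    set w := (x * b') ^ m with hw
    have wA := hnorm A h.hA inf_le_left w x x hx hx hx1 (by rw [← m2.eq, mul_inv_cancel_right])
    have wB := hnorm B h.hB inf_le_right w b' b' hb hb hb1 (by rw [← m3.eq, mul_inv_cancel_right])
    obtain ⟨D, hD, hUD, hwD⟩ : ∃ D, Blk k T D ∧ U ≤ D ∧ (w : G) * x ∈ D := by
      rcases m4 with ⟨j, e, -⟩ | ⟨j, -, e⟩ <;> simp only [← map_mul, ← map_pow, ← map_inv] at e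
      · exact ⟨_, h.hA.conj _, h.le_cj inf_le_left ((x * b') ^ j).2, hmem _
          (h.le_cj inf_le_left ((x * b') ^ j).2) _ _ e (conj_mem_map_conj hx)⟩
      · exact ⟨_, h.hB.conj _, h.le_cj inf_le_right ((x * b') ^ (j + 1)).2, hmem _
          (h.le_cj inf_le_right ((x * b') ^ (j + 1)).2) _ _ e (conj_mem_map_conj hb)⟩
    have w1 : (w : G) * x ∈ A := by
      by_cases e : A = D
      · exact e ▸ hwD
      · exact (h.of_le h.hA hD e (le_inf inf_le_left hUD)).seven hwD (mul_mem wA (le_normalizer hx))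
    have w2 : (w : G) ∈ A := (mul_mem_cancel_right hx).1 w1
    rw [(hψ1 w).2 ⟨w2, h.symm.seven w2 wB⟩] at m1
    simp at m1
  let x : Y := ⟨a, h.le_cent ha⟩
  let x' : Y := ⟨a', h.le_cent ha'⟩
  obtain ⟨g, hg⟩ := isConj_iff.1 ((key x ha h1).symm.trans (key x' ha' h1'))
  obtain ⟨g, rfl⟩ := QuotientGroup.mk'_surjective _ g
  refine ⟨g, g.2, hnorm A h.hA inf_le_left g x x' ha ha' h1' hg, ?_⟩
  rw [← map_inv, ← map_mul, ← map_mul] at hg
  exact (hψ _ _).1 hg.symm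

end Max

theorem Blk.key {k : ℕ} {T : Set G} {Q : Subgroup G} (h : Blk k T Q) (hn : ¬ Q.Normal) :
    ∃ U ≤ Q, 2 ^ (k + 1) * Nat.card U ≤ Nat.card Q ∧ ∀ a ∈ Q, a ∉ U → ∀ a' ∈ Q, a' ∉ U →
      ∃ g ∈ centralizer (U : Set G),
      g ∈ normalizer (Q : Set G) ∧ a'⁻¹ * (g * a * g⁻¹) ∈ U := by
  obtain ⟨g, hg⟩ : ∃ g, cj g Q ≠ Q := by
    by_contra hc
    push Not at hc
    exact hn ⟨fun a ha g => hc g ▸ conj_mem_map_conj ha⟩
  obtain ⟨⟨A, B⟩, ⟨h1, h2, h3⟩, h4⟩ := Set.exists_max_image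
    {p : Subgroup G × Subgroup G | Blk k T p.1 ∧ Blk k T p.2 ∧ p.1 ≠ p.2}
    (fun p => Nat.card ↥(p.1 ⊓ p.2)) (Set.toFinite _) ⟨(cj g Q, Q), h.conj g, h, hg⟩
  have hM : Max k T A B := ⟨h1, h2, h3, fun A' B' a b c => h4 (A', B') ⟨a, b, c⟩⟩
  obtain ⟨s, hs, hsQ⟩ := h.nonempty
  obtain ⟨c, hk⟩ := hM.hA.exists_cj hs
  have hM' := hM.conj c
  rw [hM'.hA.uniq h hs hk hsQ] at hM'
  exact ⟨Q ⊓ cj c B, inf_le_left, h.free _ inf_le_left fun w hw hT =>
    hM'.ne (h.uniq hM'.hB hT hw.1 hw.2), fun a ha h5 a' ha' h6 => hM'.eight ha h5 ha' h6⟩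

end

variable {C X : Type*} [Group C] [Finite C] [Group X] [Finite X] {z : C} {T : Set C}
  {Q : Subgroup C} {k : ℕ} (h : TIG z T Q k) {π : C →* X} (hs : Function.Surjective π)
  (hk : π.ker = zpowers z)
include h hk

omit [Finite C] [Finite X] in
theorem eq_one {a : C} : π a = 1 ↔ a = 1 ∨ a = z := by
  have h2 : z * z = 1 := by rw [← pow_two, ← h.z2, pow_orderOf_eq_one]
  rw [← MonoidHom.mem_ker, hk]
  constructor
  · rintro ⟨i, rfl⟩
    have h3 : z ^ (2 : ℤ) = 1 := by rw [zpow_two, h2]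
    rcases Int.even_or_odd' i with ⟨j, rfl | rfl⟩
    · left; simp only; rw [zpow_mul, h3, one_zpow]
    · right; simp only; rw [zpow_add, zpow_mul, h3, one_zpow, one_mul, zpow_one]
  · rintro (rfl | rfl)
    exacts [one_mem _, mem_zpowers _]

omit [Finite C] [Finite X] in
theorem eq_iff {a b : C} : π a = π b ↔ a = b ∨ a = b * z := by
  rw [← inv_mul_eq_one, ← inv_eq_one, mul_inv_rev, inv_inv, ← map_inv, ← map_mul, eq_one h hk,
    inv_mul_eq_one, inv_mul_eq_iff_eq_mul, eq_comm]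

omit [Finite C] [Finite X] in
theorem memT {a : C} : π a ∈ π '' T ↔ a ∈ T := by
  refine ⟨fun ⟨s, hs, e⟩ => ?_, fun ha => ⟨a, ha, rfl⟩⟩
  rcases (eq_iff h hk).1 e.symm with rfl | rfl
  exacts [hs, h.Tz s hs]

omit [Finite C] [Finite X] in
theorem memQ {a : C} : π a ∈ Q.map π ↔ a ∈ Q := by
  refine ⟨fun ⟨s, hs, e⟩ => ?_, fun ha => ⟨a, ha, rfl⟩⟩
  rcases (eq_iff h hk).1 e.symm with rfl | rfl
  exacts [hs, mul_mem hs h.zQ]

include hs

omit [Finite C] [Finite X] in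
theorem card_comap (W : Subgroup X) : Nat.card (W.comap π) = 2 * Nat.card W := by
  have := Core.card_map_mul_card_inf_ker π (W.comap π)
  rw [map_comap_eq_self_of_surjective hs, inf_eq_right.2 (ker_le_comap π W), hk, Nat.card_zpowers,
    h.z2] at this
  rw [← this, mul_comm]

omit [Finite C] [Finite X] in
theorem blk (hc : ∀ S : Set X, (π ⁻¹' S).ncard = 2 * S.ncard) : Blk k (π '' T) (Q.map π) := by
  have hz : ∀ W : Subgroup X, z ∈ W.comap π := fun W => by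
    rw [mem_comap, (eq_one h hk).2 (Or.inr rfl)]; exact one_mem _
  have hQ : (Q.map π).comap π = Q := Subgroup.ext fun a => memQ h hk
  have hN : ∀ x, π x ∈ normalizer (Q.map π : Set X) ↔ x ∈ normalizer (Q : Set C) := fun x => by
    rw [← mem_comap, comap_normalizer_eq_of_surjective _ hs, hQ]
  refine ⟨?_, ?_, ?_, ?_, ?_, ?_, ?_, ?_, fun W hW h1 => ?_⟩
  · rintro _ ⟨s, hs', rfl⟩
    rw [← map_mul, h.T2 s hs', map_one]
  · rintro _ ⟨s, hs', rfl⟩ g
    obtain ⟨g, rfl⟩ := hs g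
    exact ⟨_, h.Tconj s hs' g, by simp⟩
  · rintro _ ⟨s, h1, rfl⟩ _ ⟨s', h2, rfl⟩
    exact π.map_isConj (h.Ttr s h1 s' h2)
  · rintro _ ⟨a, ha, rfl⟩
    rw [← map_mul, eq_one h hk]
    exact h.sq a ha
  · refine (map_mono h.gen).trans ?_
    rw [MonoidHom.map_closure]
    exact closure_mono (Set.image_inter_subset _ _ _)
  · rintro _ ⟨s, h1, rfl⟩ h2 x e
    obtain ⟨x, rfl⟩ := hs x
    refine (hN x).2 (h.norm s h1 ((memQ h hk).1 h2) x ((eq_iff h hk).1 ?_))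
    rw [map_mul, map_mul, e, map_inv, mul_inv_cancel_right]
  · rintro _ ⟨s, h1, rfl⟩ h2
    exact ⟨s, h.three s h1 ((hN s).1 h2), rfl⟩
  · intro e
    apply h.nk
    have : T ∩ Q = π ⁻¹' (π '' T ∩ Q.map π) := by
      ext a
      exact (and_congr (memT h hk) (memQ h hk)).symm
    rw [this, hc, pow_succ']
    exact Nat.mul_dvd_mul_left 2 e
  · have := h.free (W.comap π) (hQ ▸ comap_mono hW) (hz W) fun w hw hT => h1 _ hw ⟨w, hT, rfl⟩
    rw [card_comap h hs hk, ← hQ, card_comap h hs hk, mul_left_comm] at this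
    omega

/-- step 9 -/
theorem nine (hb : Blk k (π '' T) (Q.map π)) : (Q.map π).Normal := by
  classical
  by_contra hn
  obtain ⟨U, hUQ, hU, key⟩ := hb.key hn
  replace hU : 8 * Nat.card U ≤ Nat.card (Q.map π) :=
    (Nat.mul_le_mul_right _ (Nat.pow_le_pow_right two_pos (show 3 ≤ k + 1 from by
      have := h.k2; omega))).trans hU
  have hU0 : 0 < Nat.card U := Nat.card_pos
  have z2 : z * z = 1 := by rw [← pow_two, ← h.z2, pow_orderOf_eq_one]
  have z1 : z ≠ 1 := fun e => by simpa [e] using h.z2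
  have hc : ∀ a ∈ Q, ∀ b ∈ Q, a * b = b * a ∨ a * b = b * a * z := fun a ha b hb' =>
    (eq_iff h hk).1 (by rw [map_mul, map_mul]; exact hb.comm ⟨a, ha, rfl⟩ ⟨b, hb', rfl⟩)
  set V := Q ⊓ centralizer (U.comap π : Set C) with hV
  have hUQ' : ∀ u, π u ∈ U → u ∈ Q := fun u hu => (memQ h hk).1 (hUQ hu)
  have key' : ∀ a ∈ Q, π a ∉ U → ∀ a' ∈ Q, π a' ∉ U → ∃ g : C,
      a⁻¹ * (g * a * g⁻¹) ∈ V ∧ π (a'⁻¹ * (g * a * g⁻¹)) ∈ U := by
    intro a ha h1 a' ha' h2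
    obtain ⟨g, g1, g2, g3⟩ := key _ ⟨a, ha, rfl⟩ h1 _ ⟨a', ha', rfl⟩ h2
    obtain ⟨g, rfl⟩ := hs g
    refine ⟨g, mem_inf.2 ⟨mul_mem (inv_mem ha) ((memQ h hk).1 ?_),
      mem_centralizer_iff.2 fun u hu => ?_⟩,
      by simpa using g3⟩
    · simpa using (mem_normalizer_iff.1 g2 _).1 ⟨a, ha, rfl⟩
    · have e1 : g * u = u * g ∨ g * u = u * g * z :=
        (eq_iff h hk).1 (by rw [map_mul, map_mul, mem_centralizer_iff.1 g1 _ hu])
      have e2 := hc a ha u (hUQ' u hu)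
      have e3 : ∀ {x y : C}, x * u = u * x * y → u * x⁻¹ = x⁻¹ * u * (x * y * x⁻¹) := fun {x y} e => by
        calc u * x⁻¹ = x⁻¹ * (x * u) * x⁻¹ := by group
          _ = _ := by rw [e]; group
      have e4 : ∀ x : C, x * z * x⁻¹ = z := fun x => by rw [h.zc, mul_inv_cancel_right]
      suffices H : ∀ y y' : C, (∀ x, x * y = y * x) → (∀ x, x * y' = y' * x) →
          g * u = u * g * y → a * u = u * a * y' →
          u * (a⁻¹ * (g * a * g⁻¹)) = a⁻¹ * (g * a * g⁻¹) * u by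
        rcases e1 with e1 | e1 <;> rcases e2 with e2 | e2
        · exact H 1 1 (by simp) (by simp) (by simpa using e1) (by simpa using e2)
        · exact H 1 z (by simp) h.zc (by simpa using e1) e2
        · exact H z 1 h.zc (by simp) e1 (by simpa using e2)
        · exact H z z h.zc h.zc e1 e2
      intro y y' c1 c2 f1 f2
      have f3 : u * g = g * u * y⁻¹ := by rw [f1]; group
      have f4 : u * a = a * u * y'⁻¹ := by rw [f2]; group
      have f5 : u * g⁻¹ = g⁻¹ * u * y := by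
        rw [e3 f1, c1 g, mul_inv_cancel_right]
      have f6 : u * a⁻¹ = a⁻¹ * u * y' := by
        rw [e3 f2, c2 a, mul_inv_cancel_right]
      have c3 : ∀ x, y⁻¹ * x = x * y⁻¹ := fun x => by
        rw [inv_mul_eq_iff_eq_mul, ← mul_assoc, ← c1, mul_inv_cancel_right]
      have c4 : ∀ x, y'⁻¹ * x = x * y'⁻¹ := fun x => by
        rw [inv_mul_eq_iff_eq_mul, ← mul_assoc, ← c2, mul_inv_cancel_right]
      calc u * (a⁻¹ * (g * a * g⁻¹)) = u * a⁻¹ * (g * a * g⁻¹) := by group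
        _ = a⁻¹ * u * (y' * (g * a * g⁻¹)) := by rw [f6]; group
        _ = a⁻¹ * (u * g) * a * g⁻¹ * y' := by rw [← c2]; group
        _ = a⁻¹ * g * u * (y⁻¹ * (a * g⁻¹ * y')) := by rw [f3]; group
        _ = a⁻¹ * g * (u * a) * g⁻¹ * y' * y⁻¹ := by rw [c3]; group
        _ = a⁻¹ * g * a * u * (y'⁻¹ * (g⁻¹ * y')) * y⁻¹ := by rw [f4]; group
        _ = a⁻¹ * g * a * (u * g⁻¹) * y⁻¹ := by rw [c4]; group
        _ = _ := by rw [f5]; group
  -- `Q = V U`
  have hVU : ∀ x ∈ Q, ∃ v ∈ V, ∃ u, π u ∈ U ∧ x = v * u := by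
    intro x hx
    by_cases hxU : π x ∈ U
    · exact ⟨1, one_mem _, x, hxU, (one_mul x).symm⟩
    have := Fintype.ofFinite U
    obtain ⟨_, ⟨a, ha, rfl⟩, h1⟩ := exists_not_mem (V := Q.map π)
      (Finset.univ.image (fun u : U => (u : X)) ∪ Finset.univ.image fun u : U => u * (π x)⁻¹) (by
        refine (Finset.card_union_le _ _).trans_lt ((Nat.add_le_add Finset.card_image_le
          Finset.card_image_le).trans_lt ?_)
        rw [Finset.card_univ, ← Nat.card_eq_fintype_card]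
        omega)
    simp only [Finset.mem_union, Finset.mem_image, Finset.mem_univ, true_and, not_or,
      not_exists] at h1
    obtain ⟨g, g1, g2⟩ := key' a ha (fun e => h1.1 ⟨_, e⟩ rfl) (a * x) (mul_mem ha hx)
      fun e => h1.2 ⟨_, e⟩ (by simp)
    exact ⟨_, g1, ((a * x)⁻¹ * (g * a * g⁻¹))⁻¹, by rw [map_inv]; exact inv_mem g2, by group⟩
  have hZ : ∀ y ∈ V, (∀ v ∈ V, y * v = v * y) → π y = 1 := fun y hy h1 =>
    (eq_one h hk).2 (h.Z y hy.1 fun b hb' => by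
      obtain ⟨v, hv, u, hu, rfl⟩ := hVU b hb'
      rw [← mul_assoc, h1 v hv, mul_assoc, mul_assoc, mem_centralizer_iff.1 hy.2 u hu])
  have hVU1 : ∀ y ∈ V, π y ∈ U → π y = 1 := fun y hy h1 =>
    hZ y hy fun v hv => mem_centralizer_iff.1 hv.2 y h1
  have hcard : 8 ≤ Nat.card (V.map π) := by
    have h1 : (Q.map π : Set X) ⊆ (V.map π : Set X) * (U : Set X) := by
      rintro _ ⟨x, hx, rfl⟩
      obtain ⟨v, hv, u, hu, rfl⟩ := hVU x hx
      exact ⟨_, ⟨v, hv, rfl⟩, _, hu, (map_mul π v u).symm⟩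
    have h2 := (Nat.card_mono (Set.toFinite _) h1).trans Set.natCard_mul_le
    exact Nat.le_of_mul_le_mul_right (hU.trans h2) hU0
  have hsq : ∀ v ∈ V, π v ≠ 1 → ∀ v' ∈ V, π v' ≠ 1 → v * v = 1 → v' * v' = 1 := by
    intro v hv h1 v' hv' h2 e
    obtain ⟨g, g1, g2⟩ := key' v hv.1 (fun e => h1 (hVU1 v hv e)) v' hv'.1
      fun e => h2 (hVU1 v' hv' e)
    have g3 : g * v * g⁻¹ ∈ V := (mul_mem_cancel_left (inv_mem hv)).1 g1
    have g4 := hVU1 _ (mul_mem (inv_mem hv') g3) g2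
    rw [map_mul, map_inv, inv_mul_eq_one, eq_iff h hk] at g4
    rcases g4 with rfl | rfl
    · rw [conj_mul, e]; simp
    · rw [mul_assoc, ← mul_assoc z, ← h.zc, mul_assoc _ z, z2, mul_one, conj_mul, e]; simp
  obtain ⟨_, ⟨a, ha, rfl⟩, a1⟩ := exists_not_mem (V := V.map π) {1}
    (by rw [Finset.card_singleton]; omega)
  obtain ⟨_, ⟨b, hb', rfl⟩, b1⟩ := exists_not_mem (V := V.map π) {1, π a}
    (Finset.card_le_two.trans_lt (by omega))
  obtain ⟨_, ⟨c, hc', rfl⟩, c1⟩ := exists_not_mem (V := V.map π) {1, π a, π b, π a * π b}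
    (Finset.card_le_four.trans_lt (by omega))
  simp only [Finset.mem_insert, Finset.mem_singleton, not_or] at a1 b1 c1
  by_cases e : a * a = 1
  · have h1 : ∀ v ∈ V, v * v = 1 := fun v hv => by
      by_cases h2 : π v = 1
      · rcases (eq_one h hk).1 h2 with rfl | rfl
        exacts [one_mul _, z2]
      · exact hsq a ha a1 v hv h2 e
    refine a1 (hZ a ha fun v hv => ?_)
    rw [← inv_eq_of_mul_eq_one_right (h1 _ (mul_mem ha hv)), mul_inv_rev,
      inv_eq_of_mul_eq_one_right e, inv_eq_of_mul_eq_one_right (h1 v hv)]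
  have h1 : ∀ v ∈ V, π v ≠ 1 → v * v = z := fun v hv h2 =>
    (h.sq v hv.1).resolve_left fun e' => e (hsq v hv h2 a ha a1 e')
  have h2 : ∀ v ∈ V, π v ≠ 1 → π a * π v ≠ 1 → a * v ≠ v * a := fun v hv p1 p2 e' => by
    have := h1 _ (mul_mem ha hv) (by rwa [map_mul])
    rw [mul_assoc, ← mul_assoc v, ← e', mul_assoc, h1 v hv p1, ← mul_assoc, h1 a ha a1, z2] at this
    exact z1 this.symm
  have hi : ∀ v ∈ V, ∀ x, π v * x = 1 → x = π v := fun v hv x e' => by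
    rw [eq_inv_of_mul_eq_one_right e', hb.inv ⟨v, hv.1, rfl⟩]
  have p1 := (hc a ha.1 b hb'.1).resolve_left (h2 b hb' b1.1 fun e' => b1.2 (hi a ha _ e'))
  have p2 := (hc a ha.1 c hc'.1).resolve_left (h2 c hc' c1.1 fun e' => c1.2.1 (hi a ha _ e'))
  refine h2 (b * c) (mul_mem hb' hc') (fun e' => c1.2.2.1 (hi b hb' _ (by rwa [map_mul] at e')))
    (fun e' => c1.2.2.2 ?_) ?_
  · rw [← map_mul]
    exact hi _ (mul_mem ha hb') _ (by rwa [map_mul, ← mul_assoc, ← map_mul] at e')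
  · calc a * (b * c) = b * a * (z * c) := by rw [← mul_assoc, p1]; group
      _ = b * (a * c) * z := by rw [← h.zc]; group
      _ = b * c * a * (z * z) := by rw [p2]; group
      _ = _ := by rw [z2, mul_one]

end TI

theorem TIG.normal {D : Type*} [Group D] [Finite D] {z : D} {T : Set D} {Q : Subgroup D} {k : ℕ}
    (h : TIG z T Q k) : Q.Normal := by
  have : (zpowers z).Normal := ⟨by
    rintro _ ⟨i, rfl⟩ g
    simp only
    rw [← conj_zpow, h.zc, mul_inv_cancel_right]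
    exact zpow_mem_zpowers z i⟩
  have hs := QuotientGroup.mk'_surjective (zpowers z)
  have hk := QuotientGroup.ker_mk' (zpowers z)
  have h1 := (TI.nine h hs hk (TI.blk h hs hk fun S => by
    have := QuotientGroup.card_preimage_mk (zpowers z) S
    rwa [Nat.card_zpowers, h.z2] at this)).comap (QuotientGroup.mk' (zpowers z))
  rwa [show (Q.map (QuotientGroup.mk' (zpowers z))).comap (QuotientGroup.mk' (zpowers z)) = Q from
    Subgroup.ext fun a => TI.memQ h hk] at h1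

end CfsgLib.StdM
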