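import Mathlib
import Cfsg.Agent.Lib.StdM.X
import Cfsg.Agent.Lib.MonRec.Mod

/-! STDM, package ACT (plans/STDM.md §ACT). -/

set_option autoImplicit false

namespace CfsgLib.StdM

open Cfsg CfsgLib.Leech CfsgLib.Mon CfsgLib.DCX CfsgLib.MType Subgroup

variable {M G : Type*} [Group M] [Group G] {π : C k0 →* M} {τ : M} {φ : KK π τ →* G} {ψ : Hv →* G}

theorem qG_mul_zero (e e' : ZMod 2) (w : V24) : qG ψ e w * qG ψ e' 0 = qG ψ (e + e') w := by simp [qG_mul]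

theorem qG_mul_self (e : ZMod 2) (w : V24) : qG ψ e w * qG ψ e w = qG ψ (qf w) 0 := by
  rw [qG, qG, ← map_mul]; exact congrArg ψ (Subtype.ext (q_mul_self _ _))

theorem qG_mem (e : ZMod 2) (w : V24) : qG ψ e w ∈ QG ψ := mem_QG.2 ⟨e, w, rfl⟩

theorem qG_conj (e e' : ZMod 2) (u w : V24) : qG ψ e u * qG ψ e' w * (qG ψ e u)⁻¹ = qG ψ (e' + om u w) w := by
  refine (conj_qG (ψ := ψ) ⟨_, q_mem_Hv e u⟩ e' w).trans ?_
  rw [cε_q, cact_q]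

theorem isConj_qG {w : V24} (hw : w ≠ 0) (e e' : ZMod 2) : IsConj (qG ψ e w) (qG ψ e' w) := by
  obtain ⟨u, hu⟩ := exists_om hw (e + e')
  exact isConj_iff.2 ⟨qG ψ 0 u, by rw [qG_conj, hu, ← add_assoc, z2_add_self, zero_add]⟩

theorem short_v0 : IsShort k0 v0 := ⟨_, sqNorm_tK, rfl⟩

theorem Acts.conj' {g : G} {c : C k0} (h : Acts ψ g c) (w : V24) :
    ∃ e', ∀ e, g * qG ψ e w * g⁻¹ = qG ψ (e' + e) (cact c w) := by
  obtain ⟨e', k⟩ := h.2 w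
  refine ⟨e', fun e => ?_⟩
  rcases z2_cases e with rfl | rfl
  · rw [k, add_zero]
  · rw [← qG_mul_zero, ← k, ← zero_add (1 : ZMod 2), ← qG_mul_zero, zero_add, mul_assoc _ g⁻¹,
      (show Commute g _ from h.1).inv_left.eq]
    simp only [mul_assoc]

theorem Acts.conj {g : G} {c : C k0} (h : Acts ψ g c) (e : ZMod 2) (w : V24) :
    ∃ e', g * qG ψ e w * g⁻¹ = qG ψ e' (cact c w) :=
  let ⟨_, k⟩ := h.conj' w; ⟨_, k e⟩

theorem Acts.mul {g g' : G} {c c' : C k0} (h : Acts ψ g c) (h' : Acts ψ g' c') : Acts ψ (g * g') (c * c') := by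
  refine ⟨(show Commute g _ from h.1).mul_left h'.1, fun w => ?_⟩
  obtain ⟨e, k⟩ := h'.2 w
  obtain ⟨e', k'⟩ := h.conj e (cact c' w)
  exact ⟨e', by rw [cact_mul, ← k', ← k]; group⟩

theorem Acts.inv {g : G} {c : C k0} (h : Acts ψ g c) : Acts ψ g⁻¹ c⁻¹ := by
  refine ⟨(show Commute g _ from h.1).inv_left, fun w => ?_⟩
  obtain ⟨e, k⟩ := h.conj' (cact c⁻¹ w)
  have := k e
  rw [z2_add_self, cact_cact_inv] at this
  exact ⟨e, by rw [← this]; group⟩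

theorem acts_psi (ψ : Hv →* G) (c : Hv) : Acts ψ (ψ c) c.1 :=
  ⟨mul_inv_eq_iff_eq_mul.1 (by simp [conj_qG]), fun w => ⟨_, conj_qG c 0 w⟩⟩

theorem acts_qG (ψ : Hv →* G) (e : ZMod 2) (w : V24) : Acts ψ (qG ψ e w) (q k0 e w) := acts_psi ψ ⟨_, q_mem_Hv e w⟩

theorem Acts.conj_mem {g x : G} {c : C k0} (h : Acts ψ g c) (hx : x ∈ QG ψ) : g * x * g⁻¹ ∈ QG ψ := by
  obtain ⟨e, w, rfl⟩ := mem_QG.1 hx
  obtain ⟨e', k⟩ := h.conj e w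
  exact k ▸ qG_mem _ _

theorem Acts.mem_normalizer {g : G} {c : C k0} (h : Acts ψ g c) : g ∈ normalizer (QG ψ : Set G) :=
  mem_normalizer_iff.2 fun _ => ⟨h.conj_mem, fun k => by simpa [mul_assoc] using h.inv.conj_mem k⟩

theorem Ext.acts_eq (h : Ext φ ψ) {g : G} {c c' : C k0} (ha : Acts ψ g c) (ha' : Acts ψ g c') (w : V24) :
    cact c w = cact c' w :=
  let ⟨_, k⟩ := ha.2 w; let ⟨_, k'⟩ := ha'.2 w; (h.qG_inj (k.symm.trans k')).2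

theorem Ext.mem_QG_iff (h : Ext φ ψ) {g : G} {c : C k0} (ha : Acts ψ g c) : g ∈ QG ψ ↔ c ∈ Q k0 := by
  rw [mem_Q_iff_cact]
  constructor
  · intro hg w
    obtain ⟨e, u, rfl⟩ := mem_QG.1 hg
    rw [h.acts_eq ha (acts_qG ψ e u), cact_q]
  · intro hc
    obtain ⟨e, k⟩ := ha.2 v0
    obtain ⟨d, rfl⟩ := h.mem_range ha.1 (hc v0 ▸ k :)
    exact ⟨d, mem_Q_iff_cact.2 fun w => (h.acts_eq (acts_psi ψ d) ha w).trans (hc w), rfl⟩

theorem Ext.all_acts (h : Ext φ ψ) (c : C k0) : ∃ g, Acts ψ g c := by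
  let Y : Subgroup (C k0) :=
    { carrier := {c | ∃ g, Acts ψ g c}
      one_mem' := ⟨_, acts_psi ψ 1⟩
      mul_mem' := fun ⟨_, a⟩ ⟨_, b⟩ => ⟨_, a.mul b⟩
      inv_mem' := fun ⟨_, a⟩ => ⟨_, a.inv⟩ }
  obtain ⟨x, y, h1, h2⟩ := h.exists_acts
  exact (gen_top (Y := Y) (fun c hc => ⟨_, acts_psi ψ ⟨c, hc⟩⟩) ⟨x, h2⟩ h1).ge (mem_top c)

/-- the short elements are conjugate to `t` by elements which act -/
theorem Ext.exists_conj_short (h : Ext φ ψ) (e : ZMod 2) {w : V24} (hw : IsShort k0 w) :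
    ∃ g c, Acts ψ g c ∧ g * qG ψ 0 v0 * g⁻¹ = qG ψ e w := by
  obtain ⟨u, hu⟩ : ∃ u, om u w = 1 := exists_om_one (MonRec.Sv.ne hw)
  obtain ⟨v, hv, rfl⟩ := hw
  obtain ⟨c, hc⟩ := conj_short (κ := k0) sqNorm_tK hv 0 0
  obtain ⟨g, hg⟩ := h.all_acts c
  obtain ⟨e', k⟩ := hg.2 v0
  rw [(eq_of_conj_q hc).2] at k
  by_cases e1 : e' = e
  · exact ⟨g, c, hg, e1 ▸ k⟩
  · refine ⟨_, _, (acts_qG ψ 0 u).mul hg, ?_⟩
    rw [(by decide : ∀ e e' : ZMod 2, e' ≠ e → e = e' + 1) e e' e1, ← hu, ← qG_conj 0, ← k]; group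

theorem Ext.isConj_w0 (h : Ext φ ψ) : φ (τK' π τ) * qG ψ 1 0 * (φ (τK' π τ))⁻¹ = qG ψ 0 (w0 k0) := by
  rw [← h.z_eq, ← map_inv, ← map_mul, ← map_mul, h.ms.kr.am.conj_z]
  exact h.qG_eq rfl

theorem Ext.isConj_four (h : Ext φ ψ) (e : ZMod 2) {w : V24} (hw : Four w) : IsConj (qG ψ 1 0) (qG ψ e w) := by
  obtain ⟨v, hv, rfl⟩ := hw
  obtain ⟨c, hc⟩ := conj_four (κ := k0) (sqNorm_e8 none) hv 0 0
  obtain ⟨g, hg⟩ := h.all_acts c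
  obtain ⟨e', k⟩ := hg.2 (w0 k0)
  rw [show cact c (w0 k0) = _ from (eq_of_conj_q hc).2] at k
  exact ((isConj_iff.2 ⟨_, h.isConj_w0⟩).trans (isConj_iff.2 ⟨_, k⟩)).trans
    (isConj_qG (φ_ne_zero hv.le (by rw [hv]; decide)) _ _)

theorem t_mul_self : qG ψ 0 v0 * qG ψ 0 v0 = 1 := by
  rw [qG_mul_self, q_mul_self_eq_one.1 (tK_eq ▸ tK_mul_self), qG_zero]

theorem sq_of_isConj_qG {s : G} (h : IsConj (qG ψ 0 v0) s) : s * s = 1 := by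
  obtain ⟨g, rfl⟩ := isConj_iff.1 h
  rw [conj_mul, t_mul_self, mul_one, mul_inv_cancel]

theorem Ext.not_tz (h : Ext φ ψ) : ¬ IsConj (qG ψ 0 v0) (qG ψ 1 0) := h.t_eq ▸ h.z_eq ▸ h.nz

theorem Ext.isConj_iff (h : Ext φ ψ) {e : ZMod 2} {w : V24} : IsConj (qG ψ 0 v0) (qG ψ e w) ↔ IsShort k0 w := by
  refine ⟨fun k => ?_, fun hw => let ⟨g, _, _, k⟩ := h.exists_conj_short e hw; _root_.isConj_iff.2 ⟨g, k⟩⟩
  have h1 := sq_of_isConj_qG k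
  rw [qG_mul_self, ← qG_zero (ψ := ψ)] at h1
  rcases sing_cases (h.qG_inj h1).1 with rfl | h2 | h2
  · rcases z2_cases e with rfl | rfl
    · rw [qG_zero, isConj_one_left, ← qG_zero (ψ := ψ)] at k
      exact absurd (h.qG_inj k).2 (MonRec.Sv.ne short_v0)
    · exact absurd k h.not_tz
  · exact h2
  · exact absurd (k.trans (h.isConj_four e h2).symm) h.not_tz

theorem Ext.acts_of_norm (h : Ext φ ψ) {g : G} (hz : g * qG ψ 1 0 = qG ψ 1 0 * g)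
    (hn : g ∈ normalizer (QG ψ : Set G)) : ∃ c, Acts ψ g c := by
  obtain ⟨e, w, k⟩ := mem_QG.1 ((mem_normalizer_iff.1 hn _).1 (qG_mem 0 v0))
  obtain ⟨g', c, ha, k'⟩ := h.exists_conj_short e (h.isConj_iff.1 (_root_.isConj_iff.2 ⟨g, k⟩))
  obtain ⟨d, hd⟩ := h.mem_range (g := g'⁻¹ * g) (e := 0) ((show Commute g'⁻¹ _ from ha.inv.1).mul_left hz) (by
    rw [show g'⁻¹ * g * qG ψ 0 v0 * (g'⁻¹ * g)⁻¹ = g'⁻¹ * (g * qG ψ 0 v0 * g⁻¹) * g' by group, k, ← k']; group)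
  exact ⟨_, by simpa [hd] using ha.mul (acts_psi ψ d)⟩

theorem Ext.es (h : Ext φ ψ) : ExtraTwo.ES (QG ψ) (qG ψ 1 0) :=
  (es_Q.comap Hv.subtype (subtype_injective _) (by rintro _ ⟨e, w, rfl⟩; exact ⟨⟨_, q_mem_Hv e w⟩, rfl⟩)
    (z' := ⟨_, q_mem_Hv 1 0⟩) rfl).map_of_injective ψ h.inj'

theorem Ext.card_QG (h : Ext φ ψ) : Nat.card (QG ψ) = 2 ^ 25 := by
  rw [QG, card_map_of_injective h.inj', Core.card_subgroupOf_of_le (by rintro _ ⟨e, w, rfl⟩; exact q_mem_Hv e w), card_Q]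

theorem Ext.equiv [Finite G] (h : Ext φ ψ)
    (hn : ∀ g, g * qG ψ 1 0 = qG ψ 1 0 * g → g ∈ normalizer (QG ψ : Set G)) : Nonempty (MU ≃* G) := by
  choose c hc using fun g : centralizer ({qG ψ 1 0} : Set G) =>
    h.acts_of_norm (mem_centralizer_singleton_iff.1 g.2) (hn _ (mem_centralizer_singleton_iff.1 g.2))
  obtain ⟨L, m⟩ := MonRec.exists_mt_of_pre (Q := QG ψ) (z := qG ψ 1 0)
    ⟨h.es, fun g hg => h.es.center g ((h.mem_QG_iff (c := 1) ⟨(hg _ (qG_mem _ _)).symm, fun w =>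
      ⟨0, by rw [cact_one, ← hg _ (qG_mem _ _), mul_inv_cancel_right]⟩⟩).2 (one_mem _)) hg,
      fun g hg x => (mem_normalizer_iff.1 (hn g hg) x).1⟩ h.card_QG
    (MonoidHom.mk' (fun g => toCo1 k0 (c g)) fun a b => by
      rw [← map_mul, toCo1_eq_iff]; exact h.acts_eq (hc (a * b)) ((hc a).mul (hc b)))
    (fun x => by
      obtain ⟨d, rfl⟩ := toCo1_surjective (κ := k0) x
      obtain ⟨g, hg⟩ := h.all_acts d
      exact ⟨⟨g, mem_centralizer_singleton_iff.2 hg.1⟩, toCo1_eq_iff.2 (h.acts_eq (hc _) hg)⟩)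
    fun g => toCo1_eq_one.trans (h.mem_QG_iff (hc g)).symm
  exact MonRec.exists_equiv_of_mt m ⟨_, h.isConj_w0 ▸ qG_mem _ _, fun e =>
    w0_ne_zero (h.qG_inj (h.isConj_w0.symm.trans e)).2⟩

end CfsgLib.StdM
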