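import Mathlib
import Cfsg.Agent.Lib.StdM.Rank
import Cfsg.Agent.Lib.StdM.PW
import Cfsg.Agent.Lib.StdM.Cls
import Cfsg.Agent.Lib.StdInt.Cover
import Cfsg.Agent.Lib.Mon.MOut

/-! STDM, package GOOD (plans/STDM.md §GOOD). -/

set_option autoImplicit false

namespace CfsgLib.StdM

open Cfsg CfsgLib.Leech CfsgLib.Mon CfsgLib.DCX Subgroup

section abstract

open StdInt

variable {L : Type*} [Group L]

theorem gd_one {x : L} (h : Odd (orderOf x)) (h4 : x * x * (x * x) = 1) : x = 1 :=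
  orderOf_eq_one_iff.1 (((Nat.coprime_two_right.2 h).mul_right (Nat.coprime_two_right.2 h)).eq_one_of_dvd (by
    rw [← pow_two, ← pow_two, ← pow_mul] at h4; exact orderOf_dvd_of_pow_eq_one h4))

theorem gd_zp {s x : L} (h : s * s = 1) : x ∈ zpowers s ↔ x = 1 ∨ x = s := by
  refine ⟨?_, fun e => e.elim (fun e => e ▸ one_mem _) fun e => e ▸ mem_zpowers s⟩
  rintro ⟨n, rfl⟩
  rcases Int.even_or_odd' n with ⟨m, rfl | rfl⟩ <;> simp [zpow_add, zpow_mul, pow_two, h]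

open scoped IsMulCommutative in
/-- a group generated by elements of odd order has no direct factor of order two -/
theorem gd_sqrt [Finite L] {S : Set L} (hS : ∀ x ∈ S, Odd (orderOf x)) (top : closure S = ⊤) {s : L}
    (h1 : s * s = 1) (h2 : s ≠ 1) (hc : ∀ x, x * s = s * x) (hu : ∀ r, r * r = 1 → r = 1 ∨ r = s) :
    ∃ f, f * f = s := by
  by_contra! hn
  have m : ∀ x, x ∈ zpowers s ↔ x = 1 ∨ x = s := fun x => gd_zp h1
  have : (zpowers s).Normal := ⟨fun x hx g => by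
    rcases (m x).1 hx with rfl | rfl <;> simp [hc]⟩
  have h3 : Odd (zpowers s).index := by
    rw [← Nat.not_even_iff_odd, even_iff_two_dvd]
    intro h
    obtain ⟨g, hg⟩ := exists_prime_orderOf_dvd_card' 2 (G := L ⧸ zpowers s) h
    obtain ⟨g, rfl⟩ := QuotientGroup.mk_surjective g
    have h4 := pow_orderOf_eq_one (g : L ⧸ zpowers s)
    rw [hg, ← QuotientGroup.mk_pow, QuotientGroup.eq_one_iff, m, pow_two] at h4
    rw [(QuotientGroup.eq_one_iff g).2 ((m g).2 (hu g (h4.resolve_right (hn g)))), orderOf_one] at hg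
    exact absurd hg (by norm_num)
  have key : ∀ g : L, (MonoidHom.transfer (MonoidHom.id (zpowers s)) g : L) = g ^ (zpowers s).index := fun g => by
    rw [MonoidHom.transfer_eq_pow _ g fun k g₀ h => by
      rcases (m _).1 h with e | e
      · rw [e, eq_comm, ← conj_eq_one_iff (a := g₀⁻¹), inv_inv, e]
      · rw [e, eq_comm, ← mul_left_inj g₀, ← mul_right_inj g₀⁻¹, ← mul_assoc, e, ← hc, inv_mul_cancel_left]]
    rfl
  have h4 : closure S ≤ (MonoidHom.transfer (MonoidHom.id (zpowers s))).ker := (closure_le _).2 fun x hx => by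
    refine gd_one ((hS x hx).of_dvd_nat (orderOf_map_dvd _ x)) (Subtype.ext ?_)
    rcases (m _).1 (MonoidHom.transfer (MonoidHom.id (zpowers s)) x).2 with e | e <;> simp [e, h1]
  have h5 := congrArg Subtype.val (show MonoidHom.transfer (MonoidHom.id (zpowers s)) s = 1 from
    h4 (top.ge (mem_top s)))
  obtain ⟨n, hn⟩ := h3
  rw [key, hn, pow_succ, pow_mul, pow_two, h1, one_pow, one_mul] at h5
  exact h2 h5

theorem gd_Nc [Finite L] {s w : L} (h1 : s * s = 1) (hw : Odd (orderOf w)) (hc : Commute w s)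
    (he : ¬ Odd (Nat.card (Nc s w))) (hu : ∀ r ∈ Nc s w, r * r = 1 → r ≠ 1 → r = s) : ∃ f ∈ Nc s w, f * f = s := by
  obtain ⟨⟨r, hr⟩, h2⟩ := exists_prime_orderOf_dvd_card' 2 (G := Nc s w)
    (even_iff_two_dvd.1 (Nat.not_odd_iff_even.1 he))
  rw [← orderOf_coe] at h2
  have h3 : r ≠ 1 := fun e => by simp [e] at h2
  obtain rfl := hu r hr (by rw [← pow_two, ← h2]; exact pow_orderOf_eq_one r) h3
  have h4 : Nc r w ≤ centralizer {r} := (closure_le _).2 (by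
    rintro _ ⟨a, ha, rfl⟩
    exact mem_centralizer_singleton_iff.2 ((ha.mul_left hc).mul_left ha.inv_left))
  obtain ⟨f, hf⟩ := gd_sqrt (L := Nc r w) (S := {x | ∃ a, Commute a r ∧ (x : L) = a * w * a⁻¹}) (s := ⟨r, hr⟩)
    (fun x hx => by
      obtain ⟨a, -, e⟩ := hx
      rw [← orderOf_coe x, show (x : L) = MulAut.conj a w from e, MulEquiv.orderOf_eq]
      exact hw) (by exact closure_preimage_eq_top _) (Subtype.ext h1) (fun e => h3 (congrArg Subtype.val e))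
    (fun x => Subtype.ext (mem_centralizer_singleton_iff.1 (h4 x.2))) fun x hx => by
      by_cases e : x = 1
      · exact .inl e
      · exact .inr (Subtype.ext (hu x x.2 (congrArg Subtype.val hx) fun e' => e (Subtype.ext e')))
  exact ⟨f, f.2, congrArg Subtype.val hf⟩

/-- the conclusion of the clause `nrm` -/
def Nrm (s w : L) : Prop := Odd (Nat.card (Nc s w)) ∨ ∃ r ∈ Nc s w, r * r = 1 ∧ r ≠ 1 ∧ r ≠ s

theorem Nrm.of (e : MulAut L) {s w : L} (h : Nrm (e s) (e w)) : Nrm s w := by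
  refine h.imp (card_Nc e s w ▸ id) ?_
  rw [← map_Nc]
  rintro ⟨_, ⟨r, hr, rfl⟩, h1, h2, h3⟩
  exact ⟨r, hr, (sq_map e).1 h1, fun k => h2 (by rw [k, map_one]), fun k => h3 (k ▸ rfl)⟩

/-- the conclusion of the clauses `inn2` and `fix` -/
def Fx (t s : L) : Prop := t ∈ Wf (MulAut.conj s) ∧ ∀ a, Two a →
  (∀ v ∈ Wf (MulAut.conj s), Two v → Commute a v) → a = 1 ∨ a = t ∨ a = s ∨ a = s * t

theorem Fx.conj {t s s' : L} (ht : ∀ x, x * t = t * x) (h : Fx t s) (hk : IsConj s s') : Fx t s' := by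
  obtain ⟨k, rfl⟩ := isConj_iff.1 hk
  have e : MulAut.conj k t = t := by simp [ht k]
  have m : ∀ x, MulAut.conj k x ∈ Wf (MulAut.conj (MulAut.conj k s)) ↔ x ∈ Wf (MulAut.conj s) := fun x => by
    rw [← mem_Wf_back, back_conj]
  refine ⟨e ▸ (m t).2 h.1, fun a h1 h2 => ?_⟩
  obtain ⟨a, rfl⟩ := (MulAut.conj k).surjective a
  have := h.2 a ((two_map _).1 h1) fun v hv h3 => (comm_map _).1 (h2 _ ((m v).2 hv) ((two_map _).2 h3))
  rcases this with rfl | rfl | rfl | rfl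
  exacts [.inl (map_one _), .inr (.inl e), .inr (.inr (.inl rfl)), .inr (.inr (.inr (by rw [map_mul, e]; rfl)))]

theorem Fx.mul {t s : L} (ht : ∀ x, x * t = t * x) (tt : t * t = 1) (h : Fx t s) : Fx t (t * s) := by
  have e : MulAut.conj (t * s) = MulAut.conj s := by ext x; simp [mul_assoc, ← ht]
  rw [Fx, e, ← ht, mul_assoc, tt, mul_one]
  exact ⟨h.1, fun a h1 h2 => by have := h.2 a h1 h2; tauto⟩

end abstract

theorem gd_sq {y : C k0} (h : y ∈ Q k0) : y * y = 1 ∨ y * y = z k0 := by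
  obtain ⟨e, v, rfl⟩ := h
  rw [q_mul_self]
  rcases z2_cases (qf v) with e | e <;> rw [e]
  exacts [.inl q_zero, .inr rfl]

theorem gd_four {y : C k0} (h : y ∈ Q k0) : y * y * (y * y) = 1 := by
  rcases gd_sq h with e | e <;> rw [e]
  exacts [one_mul 1, z_mul_self]

theorem gd_v0 : v0 ≠ 0 := fun e => tKK_ne_one (Subtype.ext (tK_eq.trans (by rw [show k0.φ _ = v0 from rfl, e, q_zero]; rfl)))

theorem gd_t_ne_z : tK ≠ z k0 := fun e => gd_v0 (q_inj (tK_eq.symm.trans e)).2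

theorem gd_q_mem {e : ZMod 2} {u : V24} (h : om u v0 = 0) : q k0 e u ∈ CK := by
  rw [CK, C1_eq]; exact q_mem_Cq.2 h

theorem gd_comm_mem {x c : C k0} (hx : x ∈ Q k0) : x * c * x⁻¹ * c⁻¹ ∈ Q k0 := by
  simpa [mul_assoc] using mul_mem hx (normal_Q.conj_mem _ (inv_mem hx) c)

/-- a 2-element centralizing `C_R(r)` -/
theorem gd_cent {r c : CK} {e : ZMod 2} {σ : V24} (hr : r.1 = q k0 e σ) {n : ℕ} (h2 : c ^ 2 ^ n = 1)
    (h : ∀ x : CK, x.1 ∈ Q k0 → Commute r x → Commute c x) :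
    ∃ b, (b = 1 ∨ b = tKK ∨ b = r ∨ b = r * tKK) ∧ (c = b ∨ c = b * zK) := by
  have k : ∀ u ∈ perp v0 σ, cε c.1 u = 0 ∧ cact c.1 u = u := fun u hu => comm_q_iff.1 (congrArg Subtype.val
    (h ⟨q k0 0 u, gd_q_mem hu.1⟩ (q_mem_Q _ _) (Subtype.ext (by
      simp only [coe_mul, hr]; exact q_comm_iff.2 ((om_comm _ _).trans hu.2)))))
  obtain ⟨e', w, hc⟩ := mem_Q_of_two (c := c.1) (n := n) (by rw [← coe_pow, h2]; exact one_mem _)
    ((index_perp v0 σ).trans (by norm_num)) fun u hu => (k u hu).2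
  have key : ∀ b : CK, ∀ f, b.1 = q k0 f w → c = b ∨ c = b * zK := fun b f hb =>
    (q_eq_or (e := f) (e' := e') w).imp (fun k => Subtype.ext (by rw [hc, hb, k])) fun k =>
      Subtype.ext (by rw [hc, coe_mul, hb, k]; rfl)
  rcases perp_perp (u := v0) (w := σ) (x := w) fun y hy => by
    have := (k y hy).1
    rwa [hc, cε_q, om_comm] at this with rfl | rfl | rfl | rfl
  · exact ⟨1, .inl rfl, key 1 0 q_zero.symm⟩
  · exact ⟨tKK, .inr (.inl rfl), key _ 0 tK_eq⟩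
  · exact ⟨r, .inr (.inr (.inl rfl)), key _ e hr⟩
  · exact ⟨_, .inr (.inr (.inr rfl)), key _ _ (by
      rw [coe_mul, hr, show tKK.1 = _ from tK_eq, q_mul, add_comm σ])⟩

variable {M : Type*} [Group M] {π : C k0 →* M} {τ : M}

theorem gd_W (h : MS π τ) {r x : CK} (hx : x ∈ OddGen r) : ιK π τ x ∈ StdInt.Wf (MulAut.conj (ιK π τ r)) := by
  refine (closure_le ((StdInt.Wf (MulAut.conj (ιK π τ r))).comap (ιK π τ))).2 ?_ hx
  exact fun w hw => StdInt.mem_Wf_conj (by rw [orderOf_injective _ h.kr.inj]; exact hw.1) (hw.2.map _)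

theorem gd_range (h : MS π τ) {a : KK π τ} (ha : Commute a (ιK π τ zK)) : ∃ c, ιK π τ c = a :=
  (h.kr.range_eq (gen_piR _ _)).ge (mem_centralizer_singleton_iff.2 ha)

theorem gd_fx0 (h : MS π τ) {r : CK} {e : ZMod 2} {σ : V24} (hr : r.1 = q k0 e σ)
    (P : ∀ x : CK, x.1 ∈ Q k0 → Commute r x → x ∈ OddGen r) {a : KK π τ} (h1 : StdInt.Two a)
    (h2 : ∀ v ∈ StdInt.Wf (MulAut.conj (ιK π τ r)), StdInt.Two v → Commute a v) :
    ∃ b, (b = 1 ∨ b = tKK ∨ b = r ∨ b = r * tKK) ∧ (a = ιK π τ b ∨ a = ιK π τ b * ιK π τ zK) := by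
  have k : ∀ x : CK, x.1 ∈ Q k0 → Commute r x → Commute a (ιK π τ x) := fun x hx c =>
    h2 _ (gd_W h (P x hx c)) ⟨2, by
      rw [← map_pow, show x ^ 2 ^ 2 = 1 from Subtype.ext (by
        rw [coe_one, ← gd_four hx, coe_pow, ← pow_two, ← pow_two, ← pow_mul]; rfl), map_one]⟩
  obtain ⟨c, rfl⟩ := gd_range h (k zK z_mem_Q (zK_comm r))
  obtain ⟨n, hn⟩ := h1
  obtain ⟨b, h3, h4⟩ := gd_cent hr (c := c) (n := n) (h.kr.inj (by rw [map_pow, hn, map_one]))
    fun x hx c => h.kr.comm_iff.1 (k x hx c)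
  exact ⟨b, h3, h4.imp (congrArg _) fun k => by rw [k, map_mul]⟩

theorem gd_fx_z (h : MS π τ) : Fx (ιK π τ tKK) (ιK π τ zK) := by
  refine ⟨gd_W h (pw_z.ge (mem_top _)), fun a h1 h2 => ?_⟩
  obtain ⟨b, h3, h4⟩ := gd_fx0 h (r := zK) rfl (fun x _ _ => pw_z.ge (mem_top _)) h1 h2
  have e1 : zK * tKK * zK = tKK := by rw [zK_comm, ← mul_assoc, zK_mul_self, one_mul]
  rw [← map_mul] at h4 ⊢
  rcases h3 with rfl | rfl | rfl | rfl <;> rcases h4 with rfl | rfl <;>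
    simp only [map_one, one_mul, zK_mul_self, e1, zK_comm tKK, true_or, or_true]

theorem gd_fx (h : MS π τ) {r : CK} {e : ZMod 2} {σ : V24} (hr : r.1 = q k0 e σ) (h0 : om σ (lam k0 none) = 0)
    (P : ∀ x : CK, x.1 ∈ Q k0 → Commute r x → x ∈ OddGen r) (hτ : Commute (τK' π τ) (ιK π τ r)) :
    Fx (ιK π τ tKK) (ιK π τ r) := by
  refine ⟨gd_W h (P _ tK_mem_Q (tKK_comm r)), fun a h1 h2 => ?_⟩
  obtain ⟨b, h3, h4⟩ := gd_fx0 h hr P h1 h2
  have c1 : Commute r ⟨sT, sT_mem_CK⟩ := Subtype.ext (by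
    simp only [coe_mul, hr]; exact q_comm_iff.2 h0)
  have h5 := StdInt.conj_mem_Wf (a := (τK' π τ)⁻¹) (mul_inv_eq_iff_eq_mul.2 hτ.inv_left.symm)
    (gd_W h (P ⟨sT, sT_mem_CK⟩ (q_mem_Q _ _) c1))
  have h6 := h2 _ h5 (StdInt.two_of_sq (by
    rw [conj_mul, ← map_mul, show (⟨sT, sT_mem_CK⟩ * ⟨sT, sT_mem_CK⟩ : CK) = 1 from Subtype.ext sT_mul_self]; simp))
  have ct := fun x => (h.kr.t_comm (gen_piR _ _) x).symm
  have cr : Commute (ιK π τ r) _ := mul_inv_eq_iff_eq_mul.1 (StdInt.fix_of_mem_Wf h5)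
  rcases h4 with rfl | rfl
  · rcases h3 with rfl | rfl | rfl | rfl <;> simp
  have h7 : Commute (ιK π τ b) ((τK' π τ)⁻¹ * ιK π τ ⟨sT, sT_mem_CK⟩ * (τK' π τ)⁻¹⁻¹) := by
    rcases h3 with rfl | rfl | rfl | rfl
    exacts [map_one (ιK π τ) ▸ Commute.one_left _, ct _, cr, map_mul (ιK π τ) _ _ ▸ cr.mul_left (ct _)]
  have h8 := (h7.inv_left.mul_left h6).conj (τK' π τ)
  rw [inv_mul_cancel_left, h.kr.am.conj_z, inv_inv, ← mul_assoc, ← mul_assoc, mul_inv_cancel, one_mul,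
    mul_inv_cancel_right] at h8
  have h9 := q_comm_iff.1 (congrArg Subtype.val (h.kr.comm_iff.1 h8))
  exact absurd ((om_lam_w0 none).symm.trans ((om_comm _ _).trans h9)) one_ne_zero

theorem gd_fx_all (h : MS π τ) {s : KK π τ} (h1 : s * s = 1) (h2 : s ≠ 1) (h3 : s ≠ ιK π τ tKK) :
    Fx (ιK π τ tKK) s := by
  have ct := h.kr.t_comm (gen_piR _ _)
  have e1 : t1K.1 = q k0 0 (lam k0 none + lam k0 (some 1)) := (std_k0.tI_eq _ _).trans (by rw [φ_dlL])
  rcases (cls h h1 h2).resolve_left h3 with k | k | k | k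
  · exact (gd_fx_z h).conj ct k
  · exact ((gd_fx_z h).mul ct (by rw [← map_mul, tKK_mul_self, map_one])).conj ct k
  · exact (gd_fx h e1 (by simp only [om_add_left, om_lam_lam, add_zero]) (fun _ => pw_t1) (tau_t1 h)).conj ct k
  · exact (gd_fx h (show t1K.1 * tI k0 (some 3) (some 5) = _ by rw [e1, std_k0.tI_eq, φ_dlL, q_mul])
      (by simp only [om_add_left, om_lam_lam, add_zero]) (fun _ => pw_d) (tau_d h)).conj ct k

theorem gd_nrm_z (h : MS π τ) {w : KK π τ} (hw : Odd (orderOf w)) (hc : Commute w (ιK π τ zK)) :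
    Nrm (ιK π τ zK) w := by
  obtain ⟨w, rfl⟩ := gd_range h hc
  by_cases e : w = 1
  · left
    rw [show StdInt.Nc (ιK π τ zK) (ιK π τ w) = ⊥ from eq_bot_iff.2 ((closure_le _).2 (by
      rintro _ ⟨a, -, rfl⟩; simp [e])), card_bot]
    exact odd_one
  rw [orderOf_injective _ h.kr.inj] at hw
  set N := (StdInt.Nc (ιK π τ zK) (ιK π τ w)).comap (ιK π τ)
  have hN : N.Normal := ⟨fun x hx g => by
    simpa [N] using StdInt.conj_mem_Nc ((show Commute g zK from zK_comm g).map _) hx⟩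
  have hc : center CK ⊔ N = ⊤ := CK_normal_of_mem inferInstance (mem_sup_left (mem_center_iff.2 zK_comm))
    (mem_sup_right (StdInt.self_mem_Nc _ _ : w ∈ N)) fun hQ => e (gd_one hw (Subtype.ext (gd_four hQ)))
  have h1 : _root_.commutator CK ≤ N := commutator_le.2 fun x _ y _ => by
    obtain ⟨a, ha, b, hb, rfl⟩ := mem_sup_of_normal_right.1 (hc.ge (mem_top x))
    obtain ⟨a', ha', b', hb', rfl⟩ := mem_sup_of_normal_right.1 (hc.ge (mem_top y))
    rw [← mem_center_iff.1 ha, ← mem_center_iff.1 ha', StdInt.comm_central ha ha']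
    exact mul_mem (mul_mem (mul_mem hb hb') (inv_mem hb)) (inv_mem hb')
  have := Mult.CK_facts.1
  exact .inr ⟨_, (h1 (Group.IsPerfect.mem_commutator (g := tKK)) : tKK ∈ N),
    by rw [← map_mul, tKK_mul_self, map_one], fun k => tKK_ne_one (h.kr.inj (k.trans (map_one _).symm)),
    fun k => gd_t_ne_z (congrArg Subtype.val (h.kr.inj k))⟩

theorem gd_nrm_c (h : MS π τ) {c : CK} {w : KK π τ} (h1 : c * c * (c * c) = 1) (h2 : c * c ≠ 1) (h3 : c * c ≠ zK)
    (hc : ιK π τ c ∈ StdInt.Nc (ιK π τ (c * c)) w) : Nrm (ιK π τ (c * c)) w := by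
  refine .inr ?_
  by_contra! hu
  have m : ∀ y : CK, ιK π τ y ∈ StdInt.Nc (ιK π τ (c * c)) w → y * y = 1 → y = 1 ∨ y = c * c := fun y hy e =>
    or_iff_not_imp_left.2 fun e' => h.kr.inj (hu _ hy (by rw [← map_mul, e, map_one])
      fun k => e' (h.kr.inj (k.trans (map_one _).symm)))
  have key : ∀ x ∈ Q k0, x * tK = tK * x → x * (c.1 * c.1) = c.1 * c.1 * x →
      x * c.1 * x⁻¹ * c.1⁻¹ = 1 ∨ x * c.1 * x⁻¹ * c.1⁻¹ = c.1 * c.1 := fun x hx k1 k2 => by
    obtain ⟨x, rfl⟩ : ∃ x' : CK, x'.1 = x := ⟨⟨x, mem_CK.2 k1⟩, rfl⟩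
    have hy : ιK π τ (x * c * x⁻¹ * c⁻¹) ∈ StdInt.Nc (ιK π τ (c * c)) w := by
      simpa using mul_mem (StdInt.conj_mem_Nc ((show Commute x (c * c) from Subtype.ext k2).map _) hc) (inv_mem hc)
    rcases gd_sq (gd_comm_mem (c := c.1) hx) with e | e
    · exact (m _ hy (Subtype.ext e)).imp (congrArg Subtype.val) (congrArg Subtype.val)
    · have := mul_mem hy hy
      rw [← map_mul, show x * c * x⁻¹ * c⁻¹ * (x * c * x⁻¹ * c⁻¹) = zK from Subtype.ext e] at this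
      exact ((m _ this zK_mul_self).elim (fun k => z_ne_one (congrArg Subtype.val k)) fun k => h3 k.symm).elim
  have h4 : c.1 * c.1 ∈ Q k0 := by
    by_contra h4
    refine h4 (jordan (by rw [show c.1 * c.1 * (c.1 * c.1) = 1 from congrArg Subtype.val h1]; exact one_mem _)
      fun x hx k1 k2 => ?_)
    have := (key x hx k1 k2).resolve_right fun k => h4 (k ▸ gd_comm_mem hx)
    rwa [mul_inv_eq_one, mul_inv_eq_iff_eq_mul] at this
  obtain ⟨e, σ, h5⟩ := id h4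
  have h6 := mem_Q_of_perp h4 (u := v0) (w := σ) (s := σ) fun u hu => by
    have := key _ (q_mem_Q 0 u) (mem_CK.1 (gd_q_mem hu.1)) (by rw [h5]; exact q_comm_iff.2 hu.2)
    rw [h5, q_inv, mul_assoc, mul_assoc, ← mul_assoc c.1, conj_q, q_mul, ← q_zero] at this
    exact this.imp (fun k => by simpa using Mult.eq_add_of (q_inj k).2) fun k => Mult.eq_add_of (q_inj k).2
  exact (gd_sq h6).elim (fun k => h2 (Subtype.ext k)) fun k => h3 (Subtype.ext k)

theorem gd_nrm (h : MS π τ) {s w : KK π τ} (h1 : s * s = 1) (h2 : s ≠ 1) (hw : Odd (orderOf w))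
    (hc : Commute w s) : Nrm s w := by
  have := h.finite_K
  by_cases hz : IsConj s (ιK π τ zK)
  · obtain ⟨k, e⟩ := isConj_iff.1 hz
    refine Nrm.of (MulAut.conj k) ?_
    have := hc.map (MulAut.conj k)
    rw [show MulAut.conj k s = _ from e] at this ⊢
    exact gd_nrm_z h (by rwa [MulEquiv.orderOf_eq]) this
  by_contra hn
  obtain ⟨f, hf, rfl⟩ := gd_Nc h1 hw hc (fun k => hn (.inl k)) fun r hr k1 k2 => by
    by_contra k3
    exact hn (.inr ⟨r, hr, k1, k2, k3⟩)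
  obtain ⟨k, c, e⟩ := exists_conj_CK h (s := f) (n := 2) (by rw [← h1, ← pow_two, ← pow_two, ← pow_mul]; rfl)
  have e1 : MulAut.conj k (f * f) = ιK π τ (c * c) := by rw [map_mul, map_mul, ← e]; rfl
  refine hn (Nrm.of (MulAut.conj k) (e1 ▸ gd_nrm_c h (h.kr.inj ?_) (fun k1 => h2 ?_) (fun k1 => hz ?_) ?_))
  · rw [map_mul, ← e1, ← map_mul, h1, map_one, map_one]
  · rwa [k1, map_one, MulEquiv.map_eq_one_iff] at e1
  · exact isConj_iff.2 ⟨k, k1 ▸ e1⟩
  · rw [← e1, ← e, ← StdInt.map_Nc]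
    exact mem_map_of_mem _ hf

theorem gd_inn4 (h : MS π τ) {m : KK π τ} (hm : m * m * (m * m) = ιK π τ tKK) :
    ∃ a, Commute a (m * m) ∧ ¬ Odd (orderOf (a * m * a⁻¹ * m⁻¹)) := by
  obtain ⟨k, c, e⟩ := exists_conj_CK h (s := m) (n := 3) (by
    rw [show 2 ^ 3 = 2 * 2 * 2 from rfl, pow_mul, pow_mul, pow_two, pow_two, pow_two, hm, ← map_mul, tKK_mul_self,
      map_one])
  have h1 : c.1 * c.1 * (c.1 * c.1) = tK := congrArg Subtype.val (h.kr.inj (show ιK π τ (c * c * (c * c)) =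
    ιK π τ tKK by
      simp only [map_mul, ← e, conj_mul]
      rw [hm, h.kr.t_comm (gen_piR _ _), mul_inv_cancel_right]))
  have h2 := mt (jordan (h1 ▸ tK_mem_Q)) fun hQ => (gd_sq hQ).elim
    (fun k => tKK_ne_one (Subtype.ext (h1.symm.trans k))) fun k => gd_t_ne_z (h1.symm.trans k)
  push Not at h2
  obtain ⟨x, hx, k1, k2, k3⟩ := h2
  obtain ⟨x, rfl⟩ : ∃ x' : CK, x'.1 = x := ⟨⟨x, mem_CK.2 k1⟩, rfl⟩
  obtain rfl : m = MulAut.conj k⁻¹ (ιK π τ c) := by rw [← e]; simp [mul_assoc]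
  refine ⟨MulAut.conj k⁻¹ (ιK π τ x), ?_, fun ho => k3 ?_⟩
  · rw [← map_mul, ← map_mul]
    exact ((show Commute x (c * c) from Subtype.ext k2).map _).map _
  · simp only [← map_inv, ← map_mul] at ho
    rw [MulEquiv.orderOf_eq, orderOf_injective _ h.kr.inj, ← orderOf_coe] at ho
    have := gd_one ho (gd_four (gd_comm_mem hx))
    rwa [coe_mul, coe_mul, coe_mul, coe_inv, coe_inv, mul_inv_eq_one, mul_inv_eq_iff_eq_mul] at this

theorem good_K (h : MS π τ) : GoodA (ιK π τ tKK) := by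
  have := h.finite_K
  have top := gen_piR (π.comp CK.subtype) τ
  have sq : ιK π τ tKK * ιK π τ tKK = 1 := by rw [← map_mul, tKK_mul_self, map_one]
  exact ⟨StdInt.inner_of_out (Mult.out_K h.kr.am h.kr.inj rfl (h.kr.range_eq top)
      (by rw [h.kr.index_range top]; decide) top),
    fun k => tKK_ne_one (h.kr.inj (k.trans (map_one _).symm)), sq,
    fun x => by rw [h.kr.center_eq top, gd_zp sq],
    fun l h1 h2 h3 => (gd_fx_all h h3 h1 h2).1, fun m => gd_inn4 h, fun s w h1 h2 _ => gd_nrm h h1 h2,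
    fun s a h1 h2 h3 _ => (gd_fx_all h h1 h2 h3).2 a⟩

end CfsgLib.StdM
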