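import Mathlib
import Cfsg.Agent.Lib.StdM.Abs
import Cfsg.Agent.Lib.StdInt.Main

/-! STDM, package STD (plans/STDM.md §STD). -/

set_option autoImplicit false

namespace CfsgLib.StdM

open Cfsg Subgroup CfsgLib.StdInt

theorem GoodA.map {L L' : Type*} [Group L] [Group L'] {t : L} (h : GoodA t) (e : L ≃* L') : GoodA (e t) where
  inner := h.inner.map e
  ne := e.map_ne_one_iff.2 h.ne
  sq := (sq_map e).2 h.sq
  cen z := by
    obtain ⟨z, rfl⟩ := e.surjective z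
    rw [e.map_eq_one_iff, e.apply_eq_iff_eq, ← h.cen, mem_center_iff, mem_center_iff, e.surjective.forall]
    exact forall_congr' fun x => comm_map e
  inn2 l h1 h2 h3 := by
    obtain ⟨l, rfl⟩ := e.surjective l
    rw [← mem_Wf_back, back_conj]
    exact h.inn2 l (e.map_ne_one_iff.1 h1) (fun x => h2 (congrArg e x)) ((sq_map e).1 h3)
  inn4 m h1 := by
    obtain ⟨m, rfl⟩ := e.surjective m
    obtain ⟨a, a1, a2⟩ := h.inn4 m (e.injective (by simpa only [map_mul] using h1))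
    refine ⟨e a, by simpa only [map_mul] using a1.map e, ?_⟩
    rwa [← map_inv, ← map_inv, ← map_mul, ← map_mul, ← map_mul, e.orderOf_eq]
  nrm s w h1 h2 h3 h4 h5 := by
    obtain ⟨s, rfl⟩ := e.surjective s
    obtain ⟨w, rfl⟩ := e.surjective w
    rw [card_Nc]
    refine (h.nrm s w ((sq_map e).1 h1) (e.map_ne_one_iff.1 h2) (fun x => h3 (congrArg e x))
      (by rwa [e.orderOf_eq] at h4) ((comm_map e).1 h5)).imp_right fun ⟨r, r1, r2, r3, r4⟩ =>
      ⟨e r, map_Nc e s w ▸ mem_map_of_mem _ r1, (sq_map e).2 r2, e.map_ne_one_iff.2 r3,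
        fun x => r4 (e.injective x)⟩
  fix s a h1 h2 h3 h4 h5 h6 := by
    obtain ⟨s, rfl⟩ := e.surjective s
    obtain ⟨a, rfl⟩ := e.surjective a
    rw [← map_mul, e.map_eq_one_iff, e.apply_eq_iff_eq, e.apply_eq_iff_eq, e.apply_eq_iff_eq]
    exact h.fix s a ((sq_map e).1 h1) (e.map_ne_one_iff.1 h2) (fun x => h3 (congrArg e x))
      ((comm_map e).1 h4) ((two_map e).1 h5) fun v hv h2 => (comm_map e).1
        (h6 _ ((mem_Wf_back e).1 (by rwa [back_conj])) ((two_map e).2 h2))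

theorem GoodA.good0 {L : Type*} [Group L] {t : L} (h : GoodA t) : Good0 t where
  ne := h.ne
  sq := h.sq
  cen := h.cen
  out2 φ _ := h.inner φ
  nrm := h.nrm
  fix s φ h1 h2 h3 h4 h5 h6 := by
    obtain ⟨a, rfl⟩ := h.inner φ
    have has : Commute a s := mul_inv_eq_iff_eq_mul.1 h4
    have h8 : ∀ x : L, (x = 1 ∨ x = t) → x * x = 1 := fun x hx => hx.elim (fun e => by rw [e, mul_one])
      fun e => by rw [e, h.sq]
    have h2a : Two a := by
      refine ⟨3, ?_⟩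
      have : (a * a) * (a * a) = 1 ∨ (a * a) * (a * a) = t := by
        rcases h5 with h5 | h5
        · rw [← map_mul, conj_eq_one h.cen] at h5
          exact Or.inl (h8 _ h5)
        · rw [← conj_eq_one h.cen, map_mul, map_mul, h5, ← map_mul, h1, map_one]
      rw [← h8 _ this, show 2 ^ 3 = 8 from rfl]
      simp only [pow_succ, pow_zero, one_mul, mul_assoc]
    rcases h.fix s a h1 h2 h3 has h2a fun v hv h2 => mul_inv_eq_iff_eq_mul.1 (h6 v hv h2) with e | e | e | e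
    · exact Or.inl ((conj_eq_one h.cen).2 (Or.inl e))
    · exact Or.inl ((conj_eq_one h.cen).2 (Or.inr e))
    · exact Or.inr (Or.inl (by rw [e]))
    · exact Or.inr (Or.inl (by rw [e, map_mul, (conj_eq_one h.cen).2 (Or.inr rfl), mul_one]))

/-- the ambient form of `GoodA` -/
structure FxA {G : Type*} [Group G] (L K : Subgroup G) (t : G) : Prop extends Fx L K t where
  inn2 : ∀ l ∈ L, l ≠ 1 → l ≠ t → l * l = 1 → t ∈ WG L l
  inn4 : ∀ m ∈ L, m * m * (m * m) = t → ∃ a ∈ L, Commute a (m * m) ∧ ¬ Odd (orderOf (a * m * a⁻¹ * m⁻¹))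
  inner : ∀ c, Commute c t → ∃ l ∈ L, c * l ∈ K

namespace FxA

variable {G : Type*} [Group G] {L K : Subgroup G} {t g : G} (a : FxA L K t)
include a

theorem comm_l {s l : G} (hl : l ∈ L) (h3 : s * l ∈ K) : Commute s l := by
  simpa using (a.comm l hl _ h3).symm.mul_left (Commute.refl l).inv_left

theorem sq_l {s l : G} (h1 : s * s = 1) (hl : l ∈ L) (h3 : s * l ∈ K) : s * l * (s * l) = l * l := by
  rw [mul_assoc, ← mul_assoc l, ← (a.comm_l hl h3).eq, mul_assoc s, ← mul_assoc s s, h1, one_mul]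

theorem inner_W {s l : G} (h2 : s ∉ K) (hl : l ∈ L) (h3 : s * l ∈ K) (h4 : l * l = 1) : t ∈ WG L s := by
  have h5 : WG L l ≤ WG L s := closure_mono fun w hw => ⟨hw.1, hw.2.1, by
    simpa using (a.comm w hw.1 _ h3).symm.mul_left hw.2.2.inv_left⟩
  exact h5 (a.inn2 _ hl (fun e => h2 (by simpa [e] using h3))
    (fun e => h2 ((mul_mem_cancel_right a.tK).1 (e ▸ h3))) h4)

variable [Finite G] (h1 : Commute (g * t * g⁻¹) t) (h2 : g * t * g⁻¹ ≠ t)
include h1 h2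

theorem t_mem {l : G} (hl : l ∈ L) (h3 : g * t * g⁻¹ * l ∈ K) (h4 : l * l = 1) : g⁻¹ * t * g ∈ L :=
  mem_cj.1 (WG_le ((a.pair h1 h2).two_mem (a.inner_W (a.pair h1 h2).sK hl h3 h4) (two_of_sq a.sq))).1

theorem swap (h : g * t * g⁻¹ ∈ L) : g⁻¹ * t * g ∈ L :=
  a.t_mem h1 h2 h ((a.pair h1 h2).b.sq ▸ one_mem K) (a.pair h1 h2).b.sq

theorem exists_mem : ∃ g : G, g * t * g⁻¹ ∈ L ∧ g * t * g⁻¹ ≠ t := by
  have p := a.pair h1 h2
  have p' := a.pair (inv_comm h1) (inv_ne h2)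
  obtain ⟨l, hl, e⟩ := a.inner _ h1
  obtain ⟨l', hl', e'⟩ := a.inner _ (inv_comm h1)
  rcases a.inter _ (mul_mem hl hl) (a.sq_l p.b.sq hl e ▸ mul_mem e e) with l2 | l2
  · exact ⟨g⁻¹, by simpa using a.t_mem h1 h2 hl e l2, inv_ne h2⟩
  rcases a.inter _ (mul_mem hl' hl') (a.sq_l p'.b.sq hl' e' ▸ mul_mem e' e') with l2' | l2'
  · exact ⟨g, by simpa using a.t_mem (inv_comm h1) (inv_ne h2) hl' e' l2', h2⟩
  refine ⟨g, ?_, h2⟩
  have k1 : g * (g⁻¹ * t * g⁻¹⁻¹ * l') * g⁻¹ ∈ cj g K := ⟨_, e', rfl⟩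
  have k2 : g * (g⁻¹ * t * g⁻¹⁻¹ * l') * g⁻¹ * (g * (g⁻¹ * t * g⁻¹⁻¹ * l') * g⁻¹) = g * t * g⁻¹ := by
    rw [conj_mul, a.sq_l p'.b.sq hl' e', l2']
  have k3 : Commute (g * (g⁻¹ * t * g⁻¹⁻¹ * l') * g⁻¹) t := by
    refine (comm_conj.2 ?_).symm
    simpa using (Commute.refl _).mul_right (a.comm_l hl' e')
  generalize g * (g⁻¹ * t * g⁻¹⁻¹ * l') * g⁻¹ = k at k1 k2 k3
  obtain ⟨m, hm, e2⟩ : ∃ m ∈ L, k * m⁻¹ ∈ K :=
    (a.inner k k3).elim fun m h => ⟨m⁻¹, inv_mem h.1, by simpa using h.2⟩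
  have c1 := a.comm m hm _ e2
  have e3 : m * m * l ∈ K := by
    have : m * m * l = (k * m⁻¹ * (k * m⁻¹))⁻¹ * (g * t * g⁻¹ * l) := by
      rw [← k2, eq_inv_mul_iff_mul_eq, ← mul_assoc, ← mul_assoc, mul_assoc (k * m⁻¹), inv_mul_cancel_right,
        mul_assoc (k * m⁻¹) k m, show k * m = m * k by simpa using (c1.mul_right (Commute.refl m)).symm.eq]
      group
    exact this ▸ mul_mem (inv_mem (mul_mem e2 e2)) e
  have ti : t⁻¹ = t := inv_eq_of_mul_eq_one_right a.sq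
  have e4 : m * m = l⁻¹ ∨ m * m = t * l⁻¹ :=
    (a.inter _ (mul_mem (mul_mem hm hm) hl) e3).imp eq_inv_of_mul_eq_one_left eq_mul_inv_of_mul_eq
  obtain ⟨x, hx, x1, x2⟩ := a.inn4 m hm (by
    rcases e4 with e4 | e4 <;> rw [e4]
    · rw [← mul_inv_rev, l2, ti]
    · rw [mul_assoc, ← mul_assoc l⁻¹, (a.cL (inv_mem hl)).eq, mul_assoc t, ← mul_assoc t t, a.sq, one_mul,
        ← mul_inv_rev, l2, ti])
  have x3 : Commute x l⁻¹ := by
    rcases e4 with e4 | e4 <;> rw [e4] at x1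
    · exact x1
    · simpa using (a.cL hx).inv_right.mul_right x1
  have x4 : Commute x (g * t * g⁻¹) := by simpa using (a.comm x hx _ e).mul_right x3
  have e5 : x * m * x⁻¹ * m⁻¹ = x * k * x⁻¹ * k⁻¹ := by
    have c2 := a.comm _ (mul_mem (mul_mem (mul_mem hx hm) (inv_mem hx)) (inv_mem hm)) _ e2
    calc _ = k * m⁻¹ * (x * m * x⁻¹ * m⁻¹) * (k * m⁻¹)⁻¹ := by rw [← c2.eq, mul_inv_cancel_right]
      _ = k * m⁻¹ * x * m * x⁻¹ * k⁻¹ := by group
      _ = _ := by rw [← (a.comm x hx _ e2).eq]; group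
  have m1 : x * m * x⁻¹ * m⁻¹ ∈ L ⊓ cj g K :=
    mem_inf.2 ⟨mul_mem (mul_mem (mul_mem hx hm) (inv_mem hx)) (inv_mem hm),
      e5 ▸ mul_mem (p.b.nK x x4 k k1) (inv_mem k1)⟩
  obtain ⟨r, r1, r2, r3⟩ := exists_invol (H := zpowers (x * m * x⁻¹ * m⁻¹)) (by rwa [Nat.card_zpowers])
  have r4 := zpowers_le.2 m1 r1
  exact p.alpha r4.1 r4.2 r2 r3 ▸ r4.1

theorem two_K {k : G} (hk : k ∈ K) (h : Two k) : k = 1 ∨ k = t := by
  obtain ⟨g, h3, h4⟩ := a.exists_mem h1 h2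
  have h5 := a.cL h3
  have p := a.pair h5 h4
  have h6 : g * k * g⁻¹ ∈ cj g K := ⟨k, hk, rfl⟩
  exact (p.sylow h3 h6 (p.b.comm t (mem_cj.2 (a.swap h5 h4 h3)) _ h6).symm (two_conj g h)).imp
    (fun e => by simpa using e) fun e => by simpa using e

end FxA

theorem GoodA.cent_eq {G : Type*} [Group G] [Finite G] [IsSimpleGroup G] (hG : ¬IsMulCommutative G)
    {L : Subgroup G} (hL : IsStandardSubgroup L) {t : L} (h : GoodA t)
    (hb : centralizerPPrimeCore 2 (t : G) = ⊥) : centralizer {(t : G)} = L := by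
  have a : FxA L (centralizer (L : Set G)) t :=
    { toFx := fx_of hL h.good0
      inn2 := fun l hl h1 h2 h3 => (mem_Wf_aut (le_normalizer hl)).1 (aut_conj (⟨l, hl⟩ : L) ▸ h.inn2 ⟨l, hl⟩
        (fun e => h1 (congrArg Subtype.val e)) (fun e => h2 (congrArg Subtype.val e)) (Subtype.ext h3))
      inn4 := fun m hm h1 => by
        obtain ⟨x, x1, x2⟩ := h.inn4 ⟨m, hm⟩ (Subtype.ext h1)
        exact ⟨x, x.2, x1.map L.subtype, by rwa [← orderOf_coe] at x2⟩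
      inner := fun c hc => dec_of_inner hL h.good0 h.inner hc }
  obtain ⟨g, h1, h2⟩ := a.simple hG
  obtain ⟨θ, h3⟩ := a.exists_th fun k => a.two_K h1 h2
  have h4 := h3.le a.toHalf (eq_bot_iff.2 (hb ▸ Core.le_map_pPrimeCore
    (fun x hx => mem_centralizer_singleton_iff.2 (a.cK ((h3.mem x).1 hx).1))
    (fun c hc => h3.norm a.toHalf (mem_centralizer_singleton_iff.1 hc)) (Nat.coprime_two_right.2 h3.odd)))
  refine le_antisymm (fun c hc => ?_) fun l hl => mem_centralizer_singleton_iff.2 (a.cL hl)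
  obtain ⟨l, hl, e⟩ := a.inner c (mem_centralizer_singleton_iff.1 hc)
  exact (mul_mem_cancel_right hl).1 (h4 e)

end CfsgLib.StdM
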