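import Mathlib
import Cfsg.Agent.Lib.StdM.Act
import Cfsg.Agent.Lib.StdM.TI

/-! STDM, package TIG (plans/STDM.md §TIG). -/

set_option autoImplicit false

namespace CfsgLib.StdM

open Cfsg CfsgLib.Leech CfsgLib.Mon CfsgLib.DCX Subgroup

variable {M G : Type*} [Group M] [Group G] {π : C k0 →* M} {τ : M} {φ : KK π τ →* G} {ψ : Hv →* G}

theorem isConj_inv_conj {a b : G} (h : IsConj a b) (g : G) : IsConj a (g⁻¹ * b * g) :=
  h.trans (isConj_iff.2 ⟨g⁻¹, by rw [inv_inv]⟩)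

theorem comm_inv_conj' {a b g : G} (h : Commute a (g * b * g⁻¹)) : g⁻¹ * a * g * b = b * (g⁻¹ * a * g) := by
  calc _ = g⁻¹ * (a * (g * b * g⁻¹)) * g := by group
    _ = _ := by rw [h.eq]; group

theorem inv_conj_mul {s g z : G} (h : g * z = z * g) : g⁻¹ * s * g * z = g⁻¹ * (s * z) * g := by
  rw [mul_assoc, h]; group

theorem Ext.tr (h : Ext φ ψ) {s : G} (h2 : s * qG ψ 1 0 = qG ψ 1 0 * s) (h3 : IsConj (qG ψ 0 v0) s)
    (h4 : IsConj (qG ψ 0 v0) (s * qG ψ 1 0)) :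
    ∃ g, g * qG ψ 1 0 = qG ψ 1 0 * g ∧ g * qG ψ 0 v0 * g⁻¹ = s := by
  obtain ⟨g, rfl⟩ := _root_.isConj_iff.1 h3
  obtain ⟨k, hk⟩ := h.toEmb.conj_z (w := g⁻¹ * qG ψ 1 0 * g)
    (by rw [show g⁻¹ * qG ψ 1 0 * g * (g⁻¹ * qG ψ 1 0 * g) = g⁻¹ * (qG ψ 1 0 * qG ψ 1 0) * g by group,
      h.es.mul_self, mul_one, inv_mul_cancel])
    (fun e => h.es.ne_one (by rwa [mul_assoc, inv_mul_eq_one, eq_comm, mul_eq_right] at e))
    (h.t_eq ▸ comm_inv_conj' h2.symm)
    (fun e => h.not_tz (by simpa [h.t_eq, mul_assoc] using isConj_inv_conj e g⁻¹))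
    (by simpa [h.t_eq, mul_assoc] using isConj_inv_conj h4 g)
  have hc : φ k * qG ψ 0 v0 = qG ψ 0 v0 * φ k := h.t_eq ▸ mem_centralizer_singleton_iff.1 (h.cent.le ⟨k, rfl⟩)
  rw [h.z_eq] at hk
  refine ⟨g * φ k, mul_inv_eq_iff_eq_mul.1 ?_, by rw [mul_assoc g, hc]; group⟩
  rw [show g * φ k * qG ψ 1 0 * (g * φ k)⁻¹ = g * (φ k * qG ψ 1 0 * (φ k)⁻¹) * g⁻¹ by group, hk]; group

theorem Ext.star' (h : Ext φ ψ) {s g : G} (hg : g * qG ψ 1 0 = qG ψ 1 0 * g) (h1 : Commute s (g * qG ψ 0 v0 * g⁻¹))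
    (h2 : s * qG ψ 1 0 = qG ψ 1 0 * s) (h3 : IsConj (qG ψ 0 v0) s) (h4 : IsConj (qG ψ 0 v0) (s * qG ψ 1 0)) :
    g⁻¹ * s * g ∈ QG ψ :=
  h.star (comm_inv_conj' h1) (((show Commute g _ from hg).inv_left.mul_left h2).mul_left hg) (isConj_inv_conj h3 g)
    (inv_conj_mul hg ▸ isConj_inv_conj h4 g)

theorem Ext.three (h : Ext φ ψ) {s : G} (h2 : s * qG ψ 1 0 = qG ψ 1 0 * s) (h3 : IsConj (qG ψ 0 v0) s)
    (h4 : IsConj (qG ψ 0 v0) (s * qG ψ 1 0)) (hn : s ∈ normalizer (QG ψ : Set G)) : s ∈ QG ψ := by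
  by_contra hs
  obtain ⟨c, hc⟩ := h.acts_of_norm h2 hn
  have s2 := sq_of_isConj_qG h3
  have c2 : c * c ∈ Q k0 := (h.mem_QG_iff (hc.mul hc)).1 (s2 ▸ one_mem _)
  have hr := rank_ge c2 (fun e => hs ((h.mem_QG_iff hc).2 e))
  have cc : ∀ u, cact c (cact c u) = u := fun u => by rw [← cact_mul, mem_Q_iff_cact.1 c2]
  have ns : ∀ e w, Commute s (qG ψ e w) → ¬ IsShort k0 w := fun e w h1 hw => by
    obtain ⟨g, d, ha, k⟩ := h.exists_conj_short e hw
    exact hs (by simpa [mul_assoc] using ha.conj_mem (h.star' ha.1 (k ▸ h1) h2 h3 h4))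
  obtain ⟨g, hg, rfl⟩ := h.tr h2 h3 h4
  generalize hs' : g * qG ψ 0 v0 * g⁻¹ = s at *
  have om0 : ∀ u u', om (cact c u + u) (cact c u' + u') = 0 := fun u u' => by
    rw [om_add_left, om_add_right, om_add_right, om_cact, ← om_cact c u (cact c u'), cc]
    generalize om u u' = a
    generalize om (cact c u) u' = b
    revert a b; decide
  have key : ∀ u, qf (cact c u + u) = 0 → ∃ e, Commute s (qG ψ e (cact c u + u)) ∧
      ∃ e' x, IsShort k0 (v0 + x) ∧ g * qG ψ e' x * g⁻¹ = qG ψ e (cact c u + u) := fun u hu => by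
    obtain ⟨e, k⟩ := hc.conj 0 u
    have e1 : (qG ψ 0 u)⁻¹ * s * qG ψ 0 u = (qG ψ 0 u)⁻¹ * qG ψ e (cact c u) * s := by rw [← k]; group
    obtain ⟨e2, w, k2⟩ := mem_QG.1 (mul_mem (inv_mem (qG_mem (ψ := ψ) 0 u)) (qG_mem e (cact c u)))
    obtain rfl : w = cact c u + u := by
      have := (h.qG_inj ((inv_mul_eq_iff_eq_mul.1 k2).trans (qG_mul _ _ _ _))).2
      rw [this, add_comm u, add_assoc, ww_add_self, add_zero]
    have a1 := isConj_inv_conj h3 (qG ψ 0 u)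
    have a2 := isConj_inv_conj h4 (qG ψ 0 u)
    rw [← inv_conj_mul (acts_qG ψ 0 u).1] at a2
    rw [e1, k2] at a1 a2
    have q2 : qG ψ e2 (cact c u + u) * qG ψ e2 (cact c u + u) = 1 := by rw [qG_mul_self, hu, qG_zero]
    have cm : Commute s (qG ψ e2 (cact c u + u)) := by
      have := sq_of_isConj_qG a1
      rw [Commute, SemiconjBy, ← inv_eq_of_mul_eq_one_right this, mul_inv_rev, inv_eq_of_mul_eq_one_right s2,
        inv_eq_of_mul_eq_one_right q2]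
    obtain ⟨e3, x, k3⟩ := mem_QG.1 (h.star' hg (hs' ▸ cm.symm.mul_left (Commute.refl s))
      ((show Commute _ _ from (acts_qG ψ e2 _).1).mul_left h2) a1 a2)
    refine ⟨e2, cm, e3 + 0 + bet x v0, x + v0, ?_, ?_⟩
    · rw [add_comm x, ← add_assoc, ww_add_self, zero_add]
      exact h.isConj_iff.1 (k3 ▸ isConj_inv_conj a1 g)
    · rw [← qG_mul e3 0, ← k3, ← conj_mul, hs', mul_assoc g⁻¹, mul_assoc, ← mul_assoc g, mul_inv_cancel, one_mul]
      simp [mul_assoc, s2]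
  let U : AddSubgroup V24 :=
    { carrier := {x | ∃ u, qf (cact c u + u) = 0 ∧ ∃ e e', g * qG ψ e x * g⁻¹ = qG ψ e' (cact c u + u)}
      zero_mem' := ⟨0, by simp [qf], 0, 0, by simp [qG_zero]⟩
      add_mem' := by
        rintro x y ⟨u, h1, e, e', k⟩ ⟨v, h2, f, f', k'⟩
        have e1 : cact c (u + v) + (u + v) = cact c u + u + (cact c v + v) := by rw [map_add]; abel
        exact ⟨u + v, by rw [e1, qf_add, h1, h2, om0]; simp, _, _, by rw [e1, ← qG_mul e f, ← conj_mul, k, k', qG_mul]⟩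
      neg_mem' := fun {x} hx => by rwa [neg_eq_of_add_eq_zero_right (ww_add_self x)] }
  have uq : ∀ {x y w w' e e' f f'}, g * qG ψ e x * g⁻¹ = qG ψ e' w → g * qG ψ f y * g⁻¹ = qG ψ f' w' →
      (x = y ↔ w = w') := by
    have k : ∀ {g : G} {x y w e e' f f'}, g * qG ψ 1 0 = qG ψ 1 0 * g → g * qG ψ e x * g⁻¹ = qG ψ e' w →
        g * qG ψ f x * g⁻¹ = qG ψ f' y → w = y := fun {g x y w e e' f f'} hg k k' => by
      by_cases e1 : f = e
      · exact (h.qG_inj (k.symm.trans (e1 ▸ k'))).2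
      · rw [(by decide : ∀ e f : ZMod 2, f ≠ e → f = e + 1) e f e1, ← qG_mul_zero, ← conj_mul, k, hg,
          mul_inv_cancel_right, qG_mul_zero] at k'
        exact (h.qG_inj k').2
    intro x y w w' e e' f f' k1 k2
    exact ⟨fun e1 => k hg k1 (e1 ▸ k2), fun e1 => k (g := g⁻¹) (e' := e) (f' := f) (show Commute g _ from hg).inv_left
      (by rw [← k1]; group) (by rw [e1, ← k2]; group)⟩
  have h24 := orth24 (U := U) (by
      rintro x ⟨u, h1, e, e', k⟩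
      obtain ⟨_, -, _, y, h5, k'⟩ := key u h1
      rwa [(uq k k').2 rfl]) (by
      rintro x ⟨u, h1, e, e', k⟩ hx
      obtain ⟨_, h5, -⟩ := key u h1
      exact ns _ _ h5 (h.isConj_iff.1 ((h.isConj_iff.2 hx).trans (_root_.isConj_iff.2 ⟨g, k⟩)))) (by
      rintro x ⟨u, h1, e, e', k⟩
      have := congrArg₂ (· * ·) k k
      simp only [conj_mul, qG_mul_self, h1, qG_zero, conj_eq_one_iff] at this
      exact (h.qG_inj (this.trans qG_zero.symm)).1)
  let f : (cact c + AddMonoidHom.id V24).range →+ ZMod 2 := AddMonoidHom.mk' (fun w => qf w.1) (by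
    rintro ⟨_, u, rfl⟩ ⟨_, v, rfl⟩
    exact (qf_add _ _).trans ((congrArg _ (om0 u v)).trans (add_zero _)))
  have h5 := f.ker.index_mul_card
  have h6 : f.ker.index ≤ 2 := by
    rw [AddSubgroup.index_ker]
    exact (AddSubgroup.card_le_card_addGroup _).trans (by simp)
  have h7 : ∀ w : f.ker, ∃ x : U, ∃ e e', g * qG ψ e x * g⁻¹ = qG ψ e' w := by
    rintro ⟨⟨_, u, rfl⟩, hu⟩
    obtain ⟨e, -, e', x, -, k⟩ := key u hu
    exact ⟨⟨x, u, hu, _, _, k⟩, _, _, k⟩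
  choose F e e' hF using h7
  have h8 := Nat.card_le_card_of_injective F fun a b e =>
    Subtype.ext (Subtype.ext ((uq (hF a) (hF b)).1 (congrArg Subtype.val e)))
  have := Nat.mul_le_mul h6 (h8.trans h24)
  omega

theorem Ext.norm [Finite G] (h : Ext φ ψ) (g : G) (hz : g * qG ψ 1 0 = qG ψ 1 0 * g) :
    g ∈ normalizer (QG ψ : Set G) := by
  let D := centralizer ({qG ψ 1 0} : Set G)
  have mD : ∀ x : D, x * qG ψ 1 0 = qG ψ 1 0 * x := fun x => mem_centralizer_singleton_iff.1 x.2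
  have QD : QG ψ ≤ D := fun x hx => mem_centralizer_singleton_iff.2 (h.es.comm_z x hx)
  let ρ : Hv →* D := ψ.codRestrict D fun c => mem_centralizer_singleton_iff.2 (acts_psi ψ c).1
  let T : Set D := {s | IsConj (qG ψ 0 v0) s ∧ IsConj (qG ψ 0 v0) (s * qG ψ 1 0)}
  have hT : T ∩ (QG ψ).subgroupOf D = ρ '' (Hv.subtype ⁻¹' {x | ∃ e w, IsShort k0 w ∧ x = q k0 e w}) := by
    ext x
    constructor
    · rintro ⟨h1, h2⟩
      obtain ⟨e, w, k⟩ := mem_QG.1 (mem_subgroupOf.1 h2)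
      exact ⟨⟨_, q_mem_Hv e w⟩, ⟨e, w, h.isConj_iff.1 (k ▸ h1.1), rfl⟩, Subtype.ext k.symm⟩
    · rintro ⟨⟨_, _⟩, ⟨e, w, hw, rfl⟩, rfl⟩
      exact ⟨⟨h.isConj_iff.2 hw, (qG_mul_zero (ψ := ψ) e 1 w).symm ▸ h.isConj_iff.2 hw⟩, qG_mem e w⟩
  have hN := subgroupOf_normalizer_eq QD
  have H : TIG (⟨qG ψ 1 0, QD h.es.mem⟩ : D) T ((QG ψ).subgroupOf D) 3 := by
    refine ⟨by omega, orderOf_eq_prime (Subtype.ext (by simpa [sq] using h.es.mul_self))
      fun e => h.es.ne_one (congrArg Subtype.val e), fun g => Subtype.ext (mD g),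
      fun s hs => Subtype.ext (sq_of_isConj_qG hs.1),
      fun s hs => ⟨hs.2, by simpa [mul_assoc, h.es.mul_self] using hs.1⟩, fun s hs g => ⟨?_, ?_⟩, fun s hs s' hs' => ?_,
      h.es.mem, fun a ha => ?_, fun a ha k => (h.es.center a ha fun b hb => ?_).imp Subtype.ext Subtype.ext, fun a ha => ?_,
      fun s hs hQ x hx => ?_, fun s hs hn => h.three (mD s) hs.1 hs.2 (hN.ge hn), ?_, fun W h1 _ h3 => ?_⟩
    · simpa using isConj_inv_conj hs.1 g.1⁻¹
    · have := isConj_inv_conj hs.2 (g⁻¹).1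
      rw [← inv_conj_mul (mD g⁻¹)] at this
      simpa using this
    · obtain ⟨a, ha, e⟩ := h.tr (mD s) hs.1 hs.2
      obtain ⟨b, hb, e'⟩ := h.tr (mD s') hs'.1 hs'.2
      exact _root_.isConj_iff.2 ⟨⟨b, mem_centralizer_singleton_iff.2 hb⟩ * ⟨a, mem_centralizer_singleton_iff.2 ha⟩⁻¹,
        Subtype.ext (by simp only [coe_mul, coe_inv, ← e, ← e']; group)⟩
    · obtain ⟨e, w, k⟩ := mem_QG.1 ha
      refine (z2_cases (qf w)).imp (fun e => Subtype.ext ?_) fun e => Subtype.ext ?_ <;>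
        rw [coe_mul, show (a : G) = _ from k, qG_mul_self, e]
      exact qG_zero
    · exact congrArg Subtype.val (k ⟨b, QD hb⟩ hb).symm
    · obtain ⟨b, hb, e⟩ := ha
      obtain ⟨c, hc, e'⟩ := (closure_le (((closure (T ∩ (QG ψ).subgroupOf D)).comap ρ).map Hv.subtype)).2 (by
        rintro _ ⟨e, w, hw, rfl⟩
        exact ⟨⟨_, q_mem_Hv e w⟩, subset_closure (hT ▸ ⟨_, ⟨e, w, hw, rfl⟩, rfl⟩), rfl⟩) (Q_le_closure hb)
      rwa [show a = ρ c from Subtype.ext (e.symm.trans (congrArg ψ (Subtype.ext e'.symm)))]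
    · obtain ⟨e, w, k⟩ := mem_QG.1 (mem_subgroupOf.1 hQ)
      obtain ⟨a, c, ha, k'⟩ := h.exists_conj_short e (h.isConj_iff.1 (k ▸ hs.1))
      have e1 : a⁻¹ * x * a * qG ψ 0 v0 * (a⁻¹ * x * a)⁻¹ = a⁻¹ * (x * s * x⁻¹ : D) * a := by
        rw [coe_mul, coe_mul, coe_inv, show (s : G) = _ from k, ← k']; group
      obtain ⟨d, hd⟩ : ∃ d, ψ d = a⁻¹ * x * a := by
        have hc := ((show Commute a _ from ha.1).inv_left.mul_left (mD x)).mul_left ha.1
        rcases hx with e2 | e2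
        · exact h.mem_range hc (e := 0) (by rw [e1, e2, show (s : G) = _ from k, ← k']; group)
        · exact h.mem_range hc (e := 0 + 1) (by
            rw [e1, e2, coe_mul, ← inv_conj_mul ha.1, show (s : G) = _ from k, ← k', ← qG_mul_zero]; group)
      refine hN.le ?_
      simpa [hd, mul_assoc, mem_subgroupOf] using ((ha.mul (acts_psi ψ d)).mul ha.inv).mem_normalizer
    · rw [hT, Set.ncard_image_of_injective _ (fun a b e => h.inj' (congrArg Subtype.val e)),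
        Set.ncard_preimage_of_injective_subset_range (subtype_injective _)
          (by rintro _ ⟨e, w, -, rfl⟩; exact ⟨⟨_, q_mem_Hv e w⟩, rfl⟩), ncard_short]
      decide
    · let U : AddSubgroup V24 :=
        { carrier := {w | ∃ e, ρ ⟨_, q_mem_Hv e w⟩ ∈ W}
          zero_mem' := ⟨0, by rw [show ρ _ = 1 from Subtype.ext qG_zero]; exact one_mem _⟩
          add_mem' := fun ⟨e, a⟩ ⟨f, b⟩ => ⟨_, (Subtype.ext (qG_mul e f _ _) : ρ _ * ρ _ = ρ _) ▸ mul_mem a b⟩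
          neg_mem' := fun {x} hx => by rwa [neg_eq_of_add_eq_zero_right (ww_add_self x)] }
      have h4 := free24 (U := U) fun u ⟨e, a⟩ hu => h3 _ a (hT.ge ⟨_, ⟨e, u, hu, rfl⟩, rfl⟩).1
      have h5 := U.index_mul_card
      choose e w hw using fun a : W => mem_QG.1 (h1 a.2)
      have h6 := Nat.card_le_card_of_injective (fun a : W => ((e a, ⟨w a, e a,
        (Subtype.ext (hw a) : a.1 = ρ _) ▸ a.2⟩) : ZMod 2 × U)) fun a b k => Subtype.ext (Subtype.ext (by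
          rw [show (a : G) = _ from hw a, show (b : G) = _ from hw b, (Prod.mk.inj k).1,
            Subtype.mk.inj (Prod.mk.inj k).2]))
      rw [Nat.card_prod, Nat.card_zmod] at h6
      rw [Core.card_subgroupOf_of_le QD, h.card_QG]
      have := Nat.mul_le_mul_right (Nat.card U) h4
      rw [h5, card_V24] at this
      omega
  have := H.normal
  exact mem_subgroupOf.1 (hN.ge ((normalizer_eq_top _).ge (mem_top (⟨g, mem_centralizer_singleton_iff.2 hz⟩ : D))))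

end CfsgLib.StdM
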