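import Mathlib
import Cfsg.Agent.Lib.StdM.Tig
import Cfsg.Agent.Lib.StdM.Good
import Cfsg.Agent.Lib.StdM.Std
import Cfsg.Agent.Lib.StdInt.Wrap
import Cfsg.Agent.Lib.Mon.CovF

/-! STDM, package MAIN (plans/STDM.md §MAIN). -/

set_option autoImplicit false

namespace CfsgLib.StdM

open Cfsg CfsgLib.Leech CfsgLib.Mon CfsgLib.DCX Subgroup
open scoped commutatorElement

variable {G : Type*} [Group G]

/-- a finite simple group with an involution whose centralizer is `2.B` is the Monster -/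
theorem Emb.equiv [Finite G] [IsSimpleGroup G] (hG : ¬ IsMulCommutative G) {φ : KK πM τM →* G} (h : Emb φ) :
    Nonempty (MU ≃* G) :=
  let ⟨_, k⟩ := h.exists_ext hG; k.equiv k.norm

/-- a perfect double cover of the Baby Monster is `K` -/
theorem exists_iso_K (hI : Cov.Inputs) {L : Type*} [Group L] [Finite L] (hp : _root_.commutator L = ⊤)
    (h2 : Nat.card (center L) = 2) (e : L ⧸ center L ≃* Spor.BabyMonster) : Nonempty (KK πM τM ≃* L) := by
  obtain ⟨m, Y, -⟩ := hI.ym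
  obtain ⟨σ, s1, s2, -⟩ := Y.baby hI.ms hI.y333 hI.y333 hI.dk
  have h := hI.ms.kr
  have top := gen_piR (πM.comp CK.subtype) τM
  have := hI.ms.finite_K
  have := h.perfect top
  have hm := Mult.mult_K h.am h.inj (by rw [h.index_range top]; decide) top (Cov.YM.univK hI.ms hI.dk)
  let ξ : L →* Spor.BabyMonster := e.toMonoidHom.comp (QuotientGroup.mk' _)
  have hξ : ∀ x, ξ x = 1 ↔ x ∈ center L := fun x => by
    simp only [ξ, MonoidHom.comp_apply, MulEquiv.coe_toMonoidHom, EmbeddingLike.map_eq_one_iff,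
      QuotientGroup.mk'_apply, QuotientGroup.eq_one_iff]
  have sξ : Function.Surjective ξ := e.surjective.comp (QuotientGroup.mk'_surjective _)
  obtain ⟨η, hη⟩ := CfsgLib.Schur.exists_lift_of_trivial_mult hm σ (ξ := ξ) ⟨sξ, fun x hx => (hξ x).1 hx⟩
  have hsup : ∀ x : L, ∃ k, x * (η k)⁻¹ ∈ center L := fun x => by
    obtain ⟨k, hk⟩ := s1 (ξ x)
    exact ⟨k, (hξ _).1 (by
      rw [map_mul, map_inv, show ξ (η k) = σ k from DFunLike.congr_fun hη k, hk, mul_inv_cancel])⟩
  have hs : Function.Surjective η := by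
    rw [← MonoidHom.range_eq_top, eq_top_iff, ← hp, commutator_def, commutator_le]
    intro x _ y _
    obtain ⟨k, hk⟩ := hsup x
    obtain ⟨l, hl⟩ := hsup y
    refine ⟨⁅k, l⁆, ?_⟩
    obtain ⟨a, rfl⟩ : ∃ a, x = a * η k := ⟨x * (η k)⁻¹, by group⟩
    obtain ⟨b, rfl⟩ : ∃ b, y = b * η l := ⟨y * (η l)⁻¹, by group⟩
    rw [mul_inv_cancel_right] at hk hl
    rw [map_commutatorElement, commutatorElement_def, commutatorElement_def, ← mem_center_iff.1 hk,
      ← mem_center_iff.1 hl,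
      show η k * a * (η l * b) * (η k * a)⁻¹ * (η l * b)⁻¹ =
        η k * (a * (η l * b)) * a⁻¹ * (η k)⁻¹ * b⁻¹ * (η l)⁻¹ by group,
      ← mem_center_iff.1 hk, show η k * (η l * b * a) * a⁻¹ * (η k)⁻¹ * b⁻¹ * (η l)⁻¹ =
        η k * η l * (b * (η k)⁻¹) * b⁻¹ * (η l)⁻¹ by group, ← mem_center_iff.1 hl]
    group
  refine ⟨MulEquiv.ofBijective η (hs.bijective_of_nat_card_le (le_of_eq ?_))⟩
  have c1 := (center L).card_mul_index
  have c2 := σ.ker.card_mul_index
  rw [index_eq_card, Nat.card_congr e.toEquiv, h2] at c1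
  rw [index_ker, MonoidHom.range_eq_top.2 s1, card_top, s2, Nat.card_zpowers,
    orderOf_eq_prime (p := 2) (by rw [pow_two, (good_K hI.ms).sq]) (good_K hI.ms).ne] at c2
  rw [← c1, ← c2]

theorem core1737 (hI : Cov.Inputs) [Finite G] [IsSimpleGroup G] (hG : ¬ IsMulCommutative G)
    (hbal : ∀ t : G, orderOf t = 2 → centralizerPPrimeCore 2 t = ⊥) (L : Subgroup G) (hL : IsStandardSubgroup L)
    (hLX : Nat.card (center L) = 2 ∧ Nonempty (L ⧸ center L ≃* Spor.BabyMonster)) : Spor.IsoM G := by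
  obtain ⟨h2, ⟨e₀⟩⟩ := hLX
  obtain ⟨e⟩ := exists_iso_K hI (StdInt.commutator_of_standard hL) h2 e₀
  have h := (good_K hI.ms).map e
  have hc := h.cent_eq hG hL (hbal _ (by
    rw [orderOf_coe]; exact orderOf_eq_prime (by rw [pow_two, h.sq]) h.ne))
  obtain ⟨f⟩ := Emb.equiv hG (φ := L.subtype.comp e.toMonoidHom)
    ⟨hI.ms, L.subtype_injective.comp e.injective, by
      rw [MonoidHom.range_comp, MonoidHom.range_eq_top.2 e.surjective, ← MonoidHom.range_eq_map,
        range_subtype]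
      exact hc.symm⟩
  obtain ⟨g⟩ := hI.equiv
  exact ⟨f.symm.trans g⟩

end CfsgLib.StdM
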